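import Groth.Agent.FibSite.K780.Cont
import Mathlib.CategoryTheory.Sites.InducedTopology

/-!
# Sheaves for the total topology
-/

set_option autoImplicit false
set_option backward.isDefEq.respectTransparency false
set_option backward.isDefEq.respectTransparency.types false
set_option backward.defeqAttrib.useBackward true

universe w v₃ u₃ v₂ u₂ v₁ u₁

open CategoryTheory CategoryTheory.Limits Opposite Pseudofunctor Pseudofunctor.CoGrothendieck
open FibSite K780.Basic K780.Cover K780.Cont

namespace K780.Sheaf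

variable {𝒮 : Type u₁} [Category.{v₁} 𝒮] {F : Pseudofunctor (LocallyDiscrete 𝒮ᵒᵖ) Cat.{v₂, u₂}}
  {J : Topologies F}

theorem isSheaf_of_fibre (hF : IsPreFibSite F J) {P : (∫ᶜ F)ᵒᵖ ⥤ Type w}
    (hP : ∀ S : 𝒮, Presieve.IsSheaf (J S) ((ι F S).op ⋙ P)) :
    Presieve.IsSheaf (totalTopology F J) P := by
  intro X R hR y hy
  obtain ⟨S, U, rfl⟩ := obj_surj X
  have hR₀ := (mem_totalTopology_iff_ι hF R).mp hR
  let R₀ : Sieve U := R.functorPullback (ι F S)
  have hle : R₀.functorPushforward (ι F S) ≤ R :=
    (Sieve.functorPushforward_le_iff_le_functorPullback (ι F S) _ _).mpr le_rfl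
  let x : Presieve.FamilyOfElements ((ι F S).op ⋙ P) R₀.arrows := fun W r hr => y ((ι F S).map r) hr
  have hx : x.Compatible := by
    intro Y₁ Y₂ Z g₁ g₂ r₁ r₂ h₁ h₂ e
    exact hy ((ι F S).map g₁) ((ι F S).map g₂) h₁ h₂ (by rw [← Functor.map_comp, ← Functor.map_comp, e])
  obtain ⟨a, ha, hu⟩ := hP S R₀ hR₀ x hx
  refine ⟨a, ?_, ?_⟩
  · intro Y h hh
    obtain ⟨T, V, rfl⟩ := obj_surj Y
    have h1 := (totalTopology F J).pullback_stable h (functorPushforward_mem_totalTopology hR₀)
    have h2 := (mem_totalTopology_iff_ι hF _).mp h1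
    refine ((hP T).isSeparated _ h2).ext ?_
    intro V' r' hr'
    obtain ⟨W, r, g, hr, e⟩ := hr'
    change P.map ((ι F T).map r').op (P.map h.op a) = P.map ((ι F T).map r').op (y h hh)
    have e1 : P.map ((ι F T).map r').op (y h hh) =
        y ((ι F T).map r' ≫ h) (R.downward_closed hh _) := by
      have := hy ((ι F T).map r') (𝟙 _) hh (R.downward_closed hh ((ι F T).map r')) (by simp)
      simpa using this
    have e2 : P.map g.op (y ((ι F S).map r) hr) =
        y (g ≫ (ι F S).map r) (R.downward_closed hr _) := by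
      have := hy g (𝟙 _) hr (R.downward_closed hr g) (by simp)
      simpa using this
    rw [e1, ← Functor.map_comp_apply, ← op_comp]
    have e3 : y ((ι F T).map r' ≫ h) (R.downward_closed hh _) =
        y (g ≫ (ι F S).map r) (R.downward_closed hr _) := by
      congr 1
    rw [e3, ← e2, e, op_comp, Functor.map_comp_apply]
    exact congrArg _ (ha r hr)
  · intro b hb
    exact hu b fun W r hr => hb _ _

theorem isSheaf_iff (hF : IsPreFibSite F J) {A : Type u₃} [Category.{v₃} A] (P : (∫ᶜ F)ᵒᵖ ⥤ A) :
    Presheaf.IsSheaf (FibSite.totalTopology F J) P ↔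
      ∀ S : 𝒮, Presheaf.IsSheaf (J S) ((ι F S).op ⋙ P) := by
  constructor
  · intro h S
    have := isContinuous_ι hF S
    exact (ι F S).op_comp_isSheaf_of_isSheaf (J S) (totalTopology F J) P h
  · intro h E
    exact isSheaf_of_fibre hF fun S => h S E

theorem isContinuous_iff (hF : IsPreFibSite F J) {D : Type u₃} [Category.{v₃} D]
    (K : GrothendieckTopology D) (m : ∫ᶜ F ⥤ D) :
    m.IsContinuous (FibSite.totalTopology F J) K ↔
      ∀ S : 𝒮, (ι F S ⋙ m).IsContinuous (J S) K := by
  constructor
  · intro h S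
    have := isContinuous_ι hF S
    exact Functor.isContinuous_comp _ _ _ (totalTopology F J) _
  · intro h
    refine ⟨fun G => ?_⟩
    refine isSheaf_of_fibre hF fun S => ?_
    have := h S
    exact (ι F S ⋙ m).op_comp_isSheaf_of_isSheaf_type (J S)
      ((isSheaf_iff_isSheaf_of_type _ _).mp G.property)

theorem inducedTopology_eq (hF : IsPreFibSite F J) (S : 𝒮) :
    (ι F S).inducedTopology (FibSite.totalTopology F J) = J S := by
  apply le_antisymm
  · intro U R hR
    exact mem_of_functorPushforward_mem hF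
      ((CoverPreserving.of_isContinuous (ι F S) _ _).cover_preserve hR)
  · rw [Functor.le_inducedTopology_iff]
    exact isContinuous_ι hF S

end K780.Sheaf
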