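import Groth.Prelude.Def_FibSite

/-!
# Basic computations in the total category of a fibred category
-/

set_option autoImplicit false
set_option backward.isDefEq.respectTransparency false
set_option backward.isDefEq.respectTransparency.types false
set_option backward.defeqAttrib.useBackward true

universe v₃ u₃ v₂ u₂ v₁ u₁

open CategoryTheory CategoryTheory.Limits Opposite Pseudofunctor Pseudofunctor.CoGrothendieck
open FibSite

namespace K780.Basic

variable {𝒮 : Type u₁} [Category.{v₁} 𝒮] {F : Pseudofunctor (LocallyDiscrete 𝒮ᵒᵖ) Cat.{v₂, u₂}}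

/-- A morphism of the total category from its components. -/
def hm {T S : 𝒮} {V : F.obj ⟨op T⟩} {U : F.obj ⟨op S⟩} (f : T ⟶ S)
    (φ : V ⟶ (invImage F f).obj U) :
    (ι F T).obj V ⟶ (ι F S).obj U := ⟨f, φ⟩

lemma obj_surj (Y : ∫ᶜ F) : ∃ (T : 𝒮) (V : F.obj ⟨op T⟩), Y = (ι F T).obj V :=
  ⟨Y.base, Y.fiber, rfl⟩

variable {T S : 𝒮} {V V' : F.obj ⟨op T⟩} {U W : F.obj ⟨op S⟩}

lemma hm_surj (g : (ι F T).obj V ⟶ (ι F S).obj U) :
    ∃ (f : T ⟶ S) (φ : V ⟶ (invImage F f).obj U), g = hm f φ :=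
  ⟨g.base, g.fiber, rfl⟩

lemma hm_inj {f : T ⟶ S} {φ φ' : V ⟶ (invImage F f).obj U}
    (h : hm f φ = hm f φ') : φ = φ' := by
  have := Hom.congr h
  simpa [hm] using this

lemma hm_base_inj {f f' : T ⟶ S} {φ : V ⟶ (invImage F f).obj U} {φ' : V ⟶ (invImage F f').obj U}
    (h : hm f φ = hm f' φ') : f = f' :=
  congrArg Hom.base h

lemma hm_comp {R : 𝒮} {X : F.obj ⟨op R⟩} (g : R ⟶ T) (ψ : X ⟶ (invImage F g).obj V) (f : T ⟶ S)
    (φ : V ⟶ (invImage F f).obj U) :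
    hm g ψ ≫ hm f φ = hm (g ≫ f) (ψ ≫ (invImage F g).map φ ≫
      (F.mapComp f.op.toLoc g.op.toLoc).inv.toNatTrans.app U) := rfl

lemma ι_map_eq {U U' : F.obj ⟨op S⟩} (r : U ⟶ U') :
    (ι F S).map r = hm (𝟙 S) (r ≫ (F.mapId ⟨op S⟩).inv.toNatTrans.app U') := rfl

attribute [local simp] PrelaxFunctor.map₂_eqToHom in
lemma hm_comp_ι_map (f : T ⟶ S) (φ : V ⟶ (invImage F f).obj W) (r : W ⟶ U) :
    hm f φ ≫ (ι F S).map r = hm f (φ ≫ (invImage F f).map r) := by
  refine Hom.ext _ _ (by simp [hm]) ?_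
  simp [hm, FibSite.invImage, F.mapComp_id_left_inv_app, Bicategory.Strict.leftUnitor_eqToIso,
    ← Functor.map_comp_assoc, ← Cat.Hom₂.comp_app]

attribute [local simp] PrelaxFunctor.map₂_eqToHom in
lemma ι_map_comp_hm (g : V' ⟶ V) (f : T ⟶ S) (φ : V ⟶ (invImage F f).obj U) :
    (ι F T).map g ≫ hm f φ = hm f (g ≫ φ) := by
  refine Hom.ext _ _ (by simp [hm]) ?_
  simp [hm, FibSite.invImage, F.mapComp_id_right_inv_app, Bicategory.Strict.rightUnitor_eqToIso,
    ← NatTrans.naturality_assoc, ← Cat.Hom₂.comp_app]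

/-- The chosen cartesian morphism. -/
def cart (f : T ⟶ S) (U : F.obj ⟨op S⟩) :
    (ι F T).obj ((invImage F f).obj U) ⟶ (ι F S).obj U :=
  hm f (𝟙 _)

lemma ι_map_comp_cart (f : T ⟶ S) (φ : V ⟶ (invImage F f).obj U) :
    (ι F T).map φ ≫ cart f U = hm f φ := by
  rw [cart, ι_map_comp_hm, Category.comp_id]

lemma cart_naturality (f : T ⟶ S) {U U' : F.obj ⟨op S⟩} (g : U ⟶ U') :
    cart f U ≫ (ι F S).map g = (ι F T).map ((invImage F f).map g) ≫ cart f U' := by
  rw [ι_map_comp_cart, cart, hm_comp_ι_map, Category.id_comp]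

lemma functorPushforward_ι_hm (R : Sieve U) (f : T ⟶ S) (φ : V ⟶ (invImage F f).obj U) :
    R.functorPushforward (ι F S) (hm f φ) ↔ R.functorPushforward (invImage F f) φ := by
  constructor
  · rintro ⟨W, r, h, hr, e⟩
    obtain ⟨f', ψ, rfl⟩ := hm_surj h
    rw [hm_comp_ι_map] at e
    obtain rfl := hm_base_inj e
    exact ⟨W, r, ψ, hr, hm_inj e⟩
  · rintro ⟨W, r, ψ, hr, rfl⟩
    exact ⟨W, r, hm f ψ, hr, (hm_comp_ι_map _ _ _).symm⟩

/-- a morphism of the total category over the identity comes from the fibre. -/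
lemma hm_id (φ : U ⟶ (invImage F (𝟙 S)).obj W) :
    hm (𝟙 S) φ = (ι F S).map (φ ≫ (F.mapId ⟨op S⟩).hom.toNatTrans.app W) := by
  rw [ι_map_eq, Category.assoc]
  refine congrArg (hm (𝟙 S)) ?_
  simp [← Cat.Hom₂.comp_app]
  exact (Category.comp_id _).symm

instance : (ι F S).Faithful where
  map_injective {X Y} f g h := by
    rw [ι_map_eq, ι_map_eq] at h
    have := congrArg (· ≫ (F.mapId ⟨op S⟩).hom.toNatTrans.app _) (hm_inj h)
    simpa [← Cat.Hom₂.comp_app] using this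

end K780.Basic
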