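import Groth.Agent.FibSite.K780.LanElt
import Groth.Agent.FibSite.K780.Sheaf

/-!
# Bicovering morphisms and Kan extension along the fibre inclusions
-/

set_option autoImplicit false
set_option backward.isDefEq.respectTransparency false
set_option backward.isDefEq.respectTransparency.types false
set_option backward.defeqAttrib.useBackward true

universe u

open CategoryTheory CategoryTheory.Limits Opposite Pseudofunctor Pseudofunctor.CoGrothendieck
open FibSite K780.Basic K780.Cover K780.Cont K780.LanElt

namespace K780.Bicover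

variable {𝒮 : Type u} [SmallCategory 𝒮] {F : Pseudofunctor (LocallyDiscrete 𝒮ᵒᵖ) Cat.{u, u}}
  {J : Topologies F} {i : 𝒮}

lemma exists_map_of_comp {V W W' : F.obj ⟨op i⟩} (x : (ι F i).obj V ⟶ (ι F i).obj W) (g : W ⟶ W')
    (h : ∃ k : V ⟶ W', (ι F i).map k = x ≫ (ι F i).map g) : ∃ k : V ⟶ W, (ι F i).map k = x := by
  obtain ⟨k, hk⟩ := h
  obtain ⟨f, φ, rfl⟩ := hm_surj x
  rw [hm_comp_ι_map, ι_map_eq] at hk
  obtain rfl := hm_base_inj hk
  exact ⟨_, (hm_id φ).symm⟩

open Classical in
/-- The retraction onto the component of the identity. -/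
lemma exists_retraction (P : (F.obj ⟨op i⟩)ᵒᵖ ⥤ Type u) (V : F.obj ⟨op i⟩) :
    ∃ ρ : ((ι F i).op.lan.obj P).obj (op ((ι F i).obj V)) → Option (P.obj (op V)),
      ∀ (W : F.obj ⟨op i⟩) (x : (ι F i).obj V ⟶ (ι F i).obj W) (p : P.obj (op W)),
        ρ (elt (ι F i) x p) =
          if h : ∃ g : V ⟶ W, (ι F i).map g = x then some (P.map h.choose.op p) else none := by
  refine exists_desc (ι F i) P ((ι F i).obj V) (Z := Option (P.obj (op V)))
    (fun W x p => if h : ∃ g : V ⟶ W, (ι F i).map g = x then some (P.map h.choose.op p) else none) ?_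
  intro W W' g x p
  by_cases h : ∃ g : V ⟶ W, (ι F i).map g = x
  · have h' : ∃ k : V ⟶ W', (ι F i).map k = x ≫ (ι F i).map g :=
      ⟨h.choose ≫ g, by rw [Functor.map_comp, h.choose_spec]⟩
    rw [dif_pos h, dif_pos h']
    have e : h'.choose = h.choose ≫ g := (ι F i).map_injective (by
      rw [h'.choose_spec, Functor.map_comp, h.choose_spec])
    rw [e, op_comp, Functor.map_comp_apply]
  · have h' : ¬ ∃ k : V ⟶ W', (ι F i).map k = x ≫ (ι F i).map g := fun h' =>
      h (exists_map_of_comp x g h')
    rw [dif_neg h, dif_neg h']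

/-- The retraction. -/
noncomputable def ρ (P : (F.obj ⟨op i⟩)ᵒᵖ ⥤ Type u) (V : F.obj ⟨op i⟩) :
    ((ι F i).op.lan.obj P).obj (op ((ι F i).obj V)) → Option (P.obj (op V)) :=
  (exists_retraction P V).choose

variable {P P' : (F.obj ⟨op i⟩)ᵒᵖ ⥤ Type u} {V W : F.obj ⟨op i⟩}

lemma ρ_map (g : V ⟶ W) (p : P.obj (op W)) :
    ρ P V (elt (ι F i) ((ι F i).map g) p) = some (P.map g.op p) := by
  have h : ∃ g' : V ⟶ W, (ι F i).map g' = (ι F i).map g := ⟨g, rfl⟩
  refine ((exists_retraction P V).choose_spec W _ p).trans ?_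
  rw [dif_pos h, (ι F i).map_injective h.choose_spec]

lemma ρ_id (p : P.obj (op V)) : ρ P V (elt (ι F i) (𝟙 _) p) = some p := by
  have := ρ_map (𝟙 V) p
  rw [(ι F i).map_id] at this
  rw [this]
  simp

lemma eq_of_ρ {y : ((ι F i).op.lan.obj P).obj (op ((ι F i).obj V))} {q : P.obj (op V)}
    (h : ρ P V y = some q) : y = elt (ι F i) (𝟙 _) q := by
  obtain ⟨W, x, p, rfl⟩ := exists_elt (ι F i) y
  have e := (exists_retraction P V).choose_spec W x p
  rw [ρ, e] at h
  split_ifs at h with h'
  obtain ⟨g, rfl⟩ := h'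
  have h2 := ρ_map g p
  rw [ρ, e, dif_pos ⟨g, rfl⟩] at h2
  rw [h2] at h
  have h3 := Option.some_injective _ h
  rw [← h3, ← elt_comp, Category.id_comp]

lemma ρ_nat (u : P ⟶ P') (y : ((ι F i).op.lan.obj P).obj (op ((ι F i).obj V))) :
    ρ P' V (((ι F i).op.lan.map u).app _ y) = (ρ P V y).map (fun p => u.app (op V) p) := by
  obtain ⟨W, x, p, rfl⟩ := exists_elt (ι F i) y
  rw [lan_map_elt]
  have e := (exists_retraction P V).choose_spec W x p
  have e' := (exists_retraction P' V).choose_spec W x (u.app (op W) p)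
  rw [ρ, ρ, e, e']
  split_ifs with h
  · simp only [Option.map_some]
    rw [NatTrans.naturality_apply]
  · rfl

/-- A morphism of presheaves on a fibre is bicovering if and only if its Kan extension is bicovering for
the total topology. -/
theorem W_iff (hF : IsPreFibSite F J) (u : P ⟶ P') :
    (J i).W u ↔ (FibSite.totalTopology F J).W (((ι F i).op.lan (H := Type u)).map u) := by
  constructor
  · intro h
    have := isContinuous_ι hF i
    exact Functor.W_map_of_adjunction_of_isContinuous (J i) (totalTopology F J) (ι F i) _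
      ((ι F i).op.lanAdjunction (Type u)) u h
  · intro h
    have h1 := h.isLocallyInjective
    have h2 := h.isLocallySurjective
    rw [GrothendieckTopology.W_iff_isLocallyBijective]
    constructor
    · refine ⟨fun {X} x y hxy => ?_⟩
      obtain ⟨V⟩ := X
      have e : (((ι F i).op.lan (H := Type u)).map u).app (op ((ι F i).obj V)) (elt (ι F i) (𝟙 _) x) =
          (((ι F i).op.lan (H := Type u)).map u).app (op ((ι F i).obj V)) (elt (ι F i) (𝟙 _) y) := by
        rw [lan_map_elt, lan_map_elt, hxy]
      have hm := (mem_totalTopology_iff_ι hF _).mp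
        (Presheaf.equalizerSieve_mem (totalTopology F J) (((ι F i).op.lan (H := Type u)).map u) _ _ e)
      refine (J i).superset_covering ?_ hm
      intro V' g hg
      have hg' : ((ι F i).op.lan.obj P).map ((ι F i).map g).op (elt (ι F i) (𝟙 _) x) =
        ((ι F i).op.lan.obj P).map ((ι F i).map g).op (elt (ι F i) (𝟙 _) y) := hg
      rw [map_elt, map_elt, Category.comp_id] at hg'
      have := congrArg (ρ P V') hg'
      rw [ρ_map, ρ_map] at this
      exact Option.some_injective _ this
    · refine ⟨fun {V} s => ?_⟩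
      have hm := (mem_totalTopology_iff_ι hF _).mp
        (Presheaf.imageSieve_mem (totalTopology F J) (((ι F i).op.lan (H := Type u)).map u)
          (elt (ι F i) (𝟙 _) s))
      refine (J i).superset_covering ?_ hm
      intro V' g hg
      obtain ⟨y, hy⟩ := hg
      have hy' : (((ι F i).op.lan (H := Type u)).map u).app (op ((ι F i).obj V')) y =
          ((ι F i).op.lan.obj P').map ((ι F i).map g).op (elt (ι F i) (𝟙 _) s) := hy
      rw [map_elt, Category.comp_id] at hy'
      have := congrArg (ρ P' V') hy'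
      rw [ρ_map, ρ_nat, Option.map_eq_some_iff] at this
      obtain ⟨q, -, hq⟩ := this
      exact ⟨q, hq⟩

end K780.Bicover
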