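import Groth.Agent.FibSite.K780.Term
import Groth.Agent.FibSite.K780.Sheaf

/-!
# Morphisms of fibred sites
-/

set_option autoImplicit false
set_option backward.isDefEq.respectTransparency false
set_option backward.isDefEq.respectTransparency.types false
set_option backward.defeqAttrib.useBackward true

universe w v₃ u₃ v₂ u₂ v₁ u₁ u

open CategoryTheory CategoryTheory.Limits Opposite Pseudofunctor Pseudofunctor.CoGrothendieck
open scoped CategoryTheory.Pseudofunctor.StrongTrans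
open FibSite K780.Basic K780.Cover K780.Cont K780.CovFlat K780.MorSite K780.Term

namespace K780.Cart

section

variable {𝒮 : Type u₁} [Category.{v₁} 𝒮] {F G : Pseudofunctor (LocallyDiscrete 𝒮ᵒᵖ) Cat.{v₂, u₂}}
  (α : G ⟶ F)

/-- The functor on a fibre. -/
abbrev fib (S : 𝒮) : G.obj ⟨op S⟩ ⥤ F.obj ⟨op S⟩ := (α.app ⟨op S⟩).toFunctor

/-- The functor between the total categories. -/
abbrev tot : ∫ᶜ G ⥤ ∫ᶜ F := Pseudofunctor.CoGrothendieck.map α

/-- Compatibility of the fibre functors with the inverse images. -/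
def nat {T S : 𝒮} (f : T ⟶ S) (U : G.obj ⟨op S⟩) :
    (fib α T).obj ((invImage G f).obj U) ≅ (invImage F f).obj ((fib α S).obj U) where
  hom := (α.naturality f.op.toLoc).hom.toNatTrans.app U
  inv := (α.naturality f.op.toLoc).inv.toNatTrans.app U
  hom_inv_id := by
    rw [← Cat.Hom₂.comp_app]
    simp
  inv_hom_id := by
    rw [← Cat.Hom₂.comp_app]
    simp

variable {T S : 𝒮} {V : G.obj ⟨op T⟩} {U W : G.obj ⟨op S⟩}

lemma tot_map_hm (f : T ⟶ S) (φ : V ⟶ (invImage G f).obj U) :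
    (tot α).map (hm f φ) = (hm f ((fib α T).map φ ≫ (nat α f U).hom) :
      (ι F T).obj ((fib α T).obj V) ⟶ (ι F S).obj ((fib α S).obj U)) := rfl

lemma tot_map_ι (r : U ⟶ W) :
    (tot α).map ((ι G S).map r) = ((ι F S).map ((fib α S).map r) :
      (ι F S).obj ((fib α S).obj U) ⟶ (ι F S).obj ((fib α S).obj W)) := by
  have h1 : (hm (𝟙 S) ((fib α S).map ((G.mapId ⟨op S⟩).inv.toNatTrans.app W) ≫ (nat α (𝟙 S) W).hom) :
      (ι F S).obj ((fib α S).obj W) ⟶ (ι F S).obj ((fib α S).obj W)) = 𝟙 _ :=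
    (tot α).map_id ((ι G S).obj W)
  rw [ι_map_eq, tot_map_hm, Functor.map_comp, Category.assoc, ← ι_map_comp_hm, h1, Category.comp_id]

lemma tot_map_cart (f : T ⟶ S) (U : G.obj ⟨op S⟩) :
    (tot α).map (cart f U) = (hm f (nat α f U).hom :
      (ι F T).obj ((fib α T).obj ((invImage G f).obj U)) ⟶ (ι F S).obj ((fib α S).obj U)) := by
  rw [cart, tot_map_hm, CategoryTheory.Functor.map_id]
  exact congrArg (hm f) (Category.id_comp _)

lemma exists_fac {V : F.obj ⟨op T⟩} (x : (ι F T).obj V ⟶ (tot α).obj ((ι G S).obj U)) :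
    ∃ (f : T ⟶ S) (ψ : V ⟶ (fib α T).obj ((invImage G f).obj U)),
      x = (ι F T).map ψ ≫ (tot α).map (cart f U) := by
  obtain ⟨f, φ, rfl⟩ := hm_surj (S := S) (U := (fib α S).obj U) x
  refine ⟨f, φ ≫ (nat α f U).inv, ?_⟩
  rw [tot_map_cart, ι_map_comp_hm, Category.assoc, Iso.inv_hom_id, Category.comp_id]

/-- The square of functors relating fibres and total categories. -/
def ιTotIso (S : 𝒮) : fib α S ⋙ ι F S ≅ ι G S ⋙ tot α :=
  NatIso.ofComponents (fun V => Iso.refl _) (fun r => by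
    refine (Category.comp_id _).trans (Eq.trans ?_ (Category.id_comp _).symm)
    exact (tot_map_ι α r).symm)

variable {J : Topologies F} {K : Topologies G}

theorem isContinuous_tot (hF : IsPreFibSite F J) (hG : IsPreFibSite G K)
    (hα : ∀ S : 𝒮, (fib α S).IsContinuous (K S) (J S)) :
    (tot α).IsContinuous (totalTopology G K) (totalTopology F J) := by
  rw [K780.Sheaf.isContinuous_iff hG]
  intro S
  have := hα S
  have := isContinuous_ι hF S
  exact Functor.isContinuous_comp' (ιTotIso α S) (K S) (J S) (totalTopology F J)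

/-- transport of local existence from a fibre to the total category. -/
lemma loc_tot {T : 𝒮} {V : F.obj ⟨op T⟩} {φ : ∀ ⦃X : ∫ᶜ F⦄, (X ⟶ (ι F T).obj V) → Prop}
    (h : Loc (J T) V (fun _ f => φ ((ι F T).map f)))
    (hφ : ∀ ⦃X Y : ∫ᶜ F⦄ (g : Y ⟶ X) (f : X ⟶ (ι F T).obj V), φ f → φ (g ≫ f)) :
    Loc (totalTopology F J) ((ι F T).obj V) φ := by
  obtain ⟨S, hS, h⟩ := h
  refine ⟨S.functorPushforward (ι F T), functorPushforward_mem_totalTopology hS, ?_⟩
  rintro Y _ ⟨W, r, g, hr, rfl⟩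
  exact hφ _ _ (h r hr)

lemma loc_fibre (hF : IsPreFibSite F J) {T : 𝒮} {V : F.obj ⟨op T⟩} {φ : ∀ ⦃X : ∫ᶜ F⦄, (X ⟶ (ι F T).obj V) → Prop}
    (h : Loc (totalTopology F J) ((ι F T).obj V) φ) :
    Loc (J T) V (fun _ f => φ ((ι F T).map f)) := by
  obtain ⟨S, hS, h⟩ := h
  exact ⟨_, (mem_totalTopology_iff_ι hF S).mp hS, fun V' f hf => h _ hf⟩

theorem isCF_tot (hα : ∀ S : 𝒮, IsCF (fib α S) (J S)) :
    IsCF (tot α) (totalTopology F J) where
  term d := by
    obtain ⟨T, V, rfl⟩ := obj_surj d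
    refine loc_tot ?_ ?_
    · refine ((hα T).term V).mono ?_
      rintro V' f ⟨c, ⟨x⟩⟩
      exact ⟨(ι G T).obj c, ⟨(ι F T).map x⟩⟩
    · rintro X Y g f ⟨c, ⟨x⟩⟩
      exact ⟨c, ⟨g ≫ x⟩⟩
  prod d c₁ c₂ x₁ x₂ := by
    obtain ⟨T, V, rfl⟩ := obj_surj d
    obtain ⟨S₁, W₁, rfl⟩ := obj_surj c₁
    obtain ⟨S₂, W₂, rfl⟩ := obj_surj c₂
    obtain ⟨f₁, ψ₁, rfl⟩ := exists_fac α x₁
    obtain ⟨f₂, ψ₂, rfl⟩ := exists_fac α x₂
    refine loc_tot ?_ ?_
    · refine ((hα T).prod V _ _ ψ₁ ψ₂).mono ?_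
      rintro V' f ⟨c, g₁, g₂, y, h₁, h₂⟩
      refine ⟨(ι G T).obj c, (ι G T).map g₁ ≫ cart f₁ W₁, (ι G T).map g₂ ≫ cart f₂ W₂,
        (ι F T).map y, ?_, ?_⟩
      · rw [Functor.map_comp, tot_map_ι]
        erw [← Functor.map_comp_assoc]
        rw [h₁, Functor.map_comp, Category.assoc]
      · rw [Functor.map_comp, tot_map_ι]
        erw [← Functor.map_comp_assoc]
        rw [h₂, Functor.map_comp, Category.assoc]
    · rintro X Y g f ⟨c, g₁, g₂, y, h₁, h₂⟩
      exact ⟨c, g₁, g₂, g ≫ y, by rw [Category.assoc, h₁, Category.assoc],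
        by rw [Category.assoc, h₂, Category.assoc]⟩
  eq d c c' s t x hx := by
    obtain ⟨T, V, rfl⟩ := obj_surj d
    obtain ⟨S, W, rfl⟩ := obj_surj c
    obtain ⟨S', W', rfl⟩ := obj_surj c'
    obtain ⟨f, ψ, rfl⟩ := exists_fac α x
    obtain ⟨g, σ, hσ⟩ := hm_surj (cart f W ≫ s)
    obtain ⟨g', τ, hτ⟩ := hm_surj (cart f W ≫ t)
    have e : (hm g (ψ ≫ (fib α T).map σ ≫ (nat α g W').hom) :
        (ι F T).obj V ⟶ (ι F S').obj ((fib α S').obj W')) =
        hm g' (ψ ≫ (fib α T).map τ ≫ (nat α g' W').hom) := by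
      rw [Category.assoc, Category.assoc, ← Functor.map_comp, ← Functor.map_comp, hσ, hτ] at hx
      exact (ι_map_comp_hm ψ g _).symm.trans (hx.trans (ι_map_comp_hm ψ g' _))
    obtain rfl := hm_base_inj e
    have e' := hm_inj e
    rw [← Category.assoc, ← Category.assoc, cancel_mono] at e'
    refine loc_tot ?_ ?_
    · refine ((hα T).eq V _ _ σ τ ψ e').mono ?_
      rintro V' f' ⟨c₀, k, y, h₁, h₂⟩
      refine ⟨(ι G T).obj c₀, (ι G T).map k ≫ cart f W, (ι F T).map y, ?_, ?_⟩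
      · rw [Category.assoc, hσ, Category.assoc, hτ, ι_map_comp_hm, ι_map_comp_hm, h₁]
      · rw [Functor.map_comp, tot_map_ι]
        erw [← Functor.map_comp_assoc]
        rw [h₂, Functor.map_comp, Category.assoc]
    · rintro X Y g f ⟨c₀, g₀, y, h₁, h₂⟩
      exact ⟨c₀, g₀, g ≫ y, h₁, by rw [Category.assoc, h₂, Category.assoc]⟩

theorem isCF_fib (hF : IsPreFibSite F J) (h : IsCF (tot α) (totalTopology F J)) (S : 𝒮) :
    IsCF (fib α S) (J S) where
  term V := by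
    refine (loc_fibre hF (h.term ((ι F S).obj V))).mono ?_
    rintro V' f ⟨c, ⟨x⟩⟩
    obtain ⟨T, W, rfl⟩ := obj_surj c
    obtain ⟨g, ψ, -⟩ := exists_fac α x
    exact ⟨_, ⟨ψ⟩⟩
  prod V c₁ c₂ x₁ x₂ := by
    refine (loc_fibre hF (h.prod ((ι F S).obj V) ((ι G S).obj c₁) ((ι G S).obj c₂)
      ((ι F S).map x₁) ((ι F S).map x₂))).mono ?_
    rintro V' f ⟨c, g₁, g₂, y, h₁, h₂⟩
    obtain ⟨T, W, rfl⟩ := obj_surj c
    obtain ⟨k, ψ, rfl⟩ := exists_fac α y
    obtain ⟨b₁, σ₁, hσ₁⟩ := hm_surj (cart k W ≫ g₁)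
    obtain ⟨b₂, σ₂, hσ₂⟩ := hm_surj (cart k W ≫ g₂)
    have h₁' : (ι F S).map ψ ≫ (tot α).map (hm b₁ σ₁) = (ι F S).map (f ≫ x₁) := by
      rw [← hσ₁, Functor.map_comp (tot α), ← Category.assoc, h₁, Functor.map_comp]
    have h₂' : (ι F S).map ψ ≫ (tot α).map (hm b₂ σ₂) = (ι F S).map (f ≫ x₂) := by
      rw [← hσ₂, Functor.map_comp (tot α), ← Category.assoc, h₂, Functor.map_comp]
    obtain rfl : b₁ = 𝟙 S := by
      rw [tot_map_hm] at h₁'
      exact hm_base_inj ((ι_map_comp_hm ψ b₁ _).symm.trans (h₁'.trans (ι_map_eq _)))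
    obtain rfl : b₂ = 𝟙 S := by
      rw [tot_map_hm] at h₂'
      exact hm_base_inj ((ι_map_comp_hm ψ b₂ _).symm.trans (h₂'.trans (ι_map_eq _)))
    rw [hm_id, tot_map_ι] at h₁' h₂'
    refine ⟨_, σ₁ ≫ (G.mapId ⟨op S⟩).hom.toNatTrans.app c₁, σ₂ ≫ (G.mapId ⟨op S⟩).hom.toNatTrans.app c₂,
      ψ, (ι F S).map_injective ?_, (ι F S).map_injective ?_⟩
    · rw [Functor.map_comp]
      exact h₁'
    · rw [Functor.map_comp]
      exact h₂'
  eq V c c' s t x hx := by
    refine (loc_fibre hF (h.eq ((ι F S).obj V) ((ι G S).obj c) ((ι G S).obj c')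
      ((ι G S).map s) ((ι G S).map t) ((ι F S).map x) ?_)).mono ?_
    · rw [tot_map_ι, tot_map_ι]
      refine ((ι F S).map_comp _ _).symm.trans (Eq.trans ?_ ((ι F S).map_comp _ _))
      rw [hx]
    · rintro V' f ⟨c₀, g, y, h₁, h₂⟩
      obtain ⟨T, W, rfl⟩ := obj_surj c₀
      obtain ⟨k, ψ, rfl⟩ := exists_fac α y
      obtain ⟨b, σ, hσ⟩ := hm_surj (cart k W ≫ g)
      have h₂' : (ι F S).map ψ ≫ (tot α).map (hm b σ) = (ι F S).map (f ≫ x) := by
        rw [← hσ, Functor.map_comp (tot α), ← Category.assoc, h₂, Functor.map_comp]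
      obtain rfl : b = 𝟙 S := by
        rw [tot_map_hm] at h₂'
        exact hm_base_inj ((ι_map_comp_hm ψ b _).symm.trans (h₂'.trans (ι_map_eq _)))
      have e := hm_id σ
      rw [hm_id, tot_map_ι] at h₂'
      refine ⟨_, σ ≫ (G.mapId ⟨op S⟩).hom.toNatTrans.app c, ψ,
        (ι G S).map_injective ?_, (ι F S).map_injective ?_⟩
      · refine ((ι G S).map_comp _ _).trans (Eq.trans ?_ ((ι G S).map_comp _ _).symm)
        rw [← e, ← hσ, Category.assoc, Category.assoc, h₁]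
      · rw [Functor.map_comp]
        exact h₂'

lemma coverPreserving_fib (hF : IsPreFibSite F J)
    (h : (tot α).IsContinuous (totalTopology G K) (totalTopology F J)) (S : 𝒮) :
    CoverPreserving (K S) (J S) (fib α S) where
  cover_preserve {U R} hR := by
    have h1 := (CoverPreserving.of_isContinuous (tot α) (totalTopology G K)
      (totalTopology F J)).cover_preserve (functorPushforward_mem_totalTopology (J := K) hR)
    have h2 := (mem_totalTopology_iff_ι (S := S) (U := (fib α S).obj U) hF _).mp h1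
    refine (J S).superset_covering ?_ h2
    intro V v hv
    obtain ⟨Y, r', g, hr', e⟩ := hv
    obtain ⟨Z, r, k, hr, rfl⟩ := hr'
    refine functorPullback_functorPushforward_le _ _ ?_
    refine ⟨(fib α S).obj Z, (fib α S).map r, g ≫ (tot α).map k, ⟨Z, r, 𝟙 _, hr, by simp⟩, ?_⟩
    rw [e, Functor.map_comp, tot_map_ι]
    simp only [Category.assoc]

end

end K780.Cart
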