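import Groth.Agent.FibSite.K780.Cover
import Mathlib.CategoryTheory.Sites.LocallyBijective

/-!
# Continuity of the fibre inclusions and sheaves for the total topology
-/

set_option autoImplicit false
set_option backward.isDefEq.respectTransparency false
set_option backward.isDefEq.respectTransparency.types false
set_option backward.defeqAttrib.useBackward true

universe w v₃ u₃ v₂ u₂ v₁ u₁

open CategoryTheory CategoryTheory.Limits Opposite Pseudofunctor Pseudofunctor.CoGrothendieck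
open FibSite K780.Basic K780.Cover

namespace K780.Cont

section General

variable {C : Type u₁} [Category.{v₁} C] {D : Type u₂} [Category.{v₂} D] {G : C ⥤ D}
  {J : GrothendieckTopology C} {K : GrothendieckTopology D}

/-- A cover preserving functor `G` such that the pushforward of every compatible family on a covering
sieve is compatible pulls back the sheaf `P` to a sheaf. -/
lemma isSheaf_op_comp {P : Dᵒᵖ ⥤ Type w} (hP : Presieve.IsSheaf K P) (hG : CoverPreserving J K G)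
    (h : ∀ ⦃X : C⦄ (R : Sieve X), R ∈ J X → ∀ (x : Presieve.FamilyOfElements (G.op ⋙ P) R.arrows),
      x.Compatible → ∀ ⦃W₁ W₂ : C⦄ ⦃Y : D⦄ (f₁ : Y ⟶ G.obj W₁) (f₂ : Y ⟶ G.obj W₂) ⦃r₁ : W₁ ⟶ X⦄
        ⦃r₂ : W₂ ⟶ X⦄ (h₁ : R r₁) (h₂ : R r₂), f₁ ≫ G.map r₁ = f₂ ≫ G.map r₂ →
        P.map f₁.op (x r₁ h₁) = P.map f₂.op (x r₂ h₂)) :
    Presieve.IsSheaf J (G.op ⋙ P) := by
  intro X S hS x hx
  apply existsUnique_of_exists_of_unique
  · have H := hP _ (hG.cover_preserve hS)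
    have hc : (x.functorPushforward G).Compatible := by
      rintro Z₁ Z₂ W g₁ g₂ f₁' f₂' H₁ H₂ eq
      unfold Presieve.FamilyOfElements.functorPushforward
      rcases Presieve.getFunctorPushforwardStructure H₁ with ⟨X₁, f₁, h₁, hf₁, rfl⟩
      rcases Presieve.getFunctorPushforwardStructure H₂ with ⟨X₂, f₂, h₂, hf₂, rfl⟩
      suffices P.map (g₁ ≫ h₁).op (x f₁ hf₁) = P.map (g₂ ≫ h₂).op (x f₂ hf₂) by
        simpa using this
      apply h S hS x hx _ _ hf₁ hf₂
      simpa using eq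
    refine ⟨H.amalgamate (x.functorPushforward G) hc, fun V f hf =>
      (H.isAmalgamation hc (G.map f) (Presieve.image_mem_functorPushforward G S.arrows hf)).trans ?_⟩
    unfold Presieve.FamilyOfElements.functorPushforward
    rcases Presieve.getFunctorPushforwardStructure (Presieve.image_mem_functorPushforward G S.arrows hf) with
      ⟨X, g, f', hg, eq⟩
    simpa using h S hS x hx f' (𝟙 _) hg hf (by simp [eq])
  · intro y₁ y₂ hy₁ hy₂
    apply ((hP.isSeparated) _ (hG.cover_preserve hS)).ext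
    rintro Y _ ⟨Z, g, h, hg, rfl⟩
    simpa using! congrArg _ ((hy₁ g hg).trans (hy₂ g hg).symm)

lemma exists_sheaf_injective {P : Cᵒᵖ ⥤ Type (max u₁ v₁ w)} (hP : Presieve.IsSeparated J P) :
    ∃ (Q : Cᵒᵖ ⥤ Type (max u₁ v₁ w)) (s : P ⟶ Q), Presieve.IsSheaf J Q ∧
      ∀ V : C, Function.Injective (s.app (op V)) := by
  have hsep : ∀ (X : C) (S : J.Cover X) (x y : ToType (P.obj (op X))),
      (∀ I : S.Arrow, P.map I.f.op x = P.map I.f.op y) → x = y := by
    intro X S x y hxy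
    exact (hP S.1 S.2).ext (fun Y f hf => hxy ⟨Y, f, hf⟩)
  exact ⟨J.plusObj P, J.toPlus P, (isSheaf_iff_isSheaf_of_type _ _).mp
    (GrothendieckTopology.Plus.isSheaf_of_sep _ hsep), fun V =>
    GrothendieckTopology.Plus.inj_of_sep _ hsep V⟩

end General

variable {𝒮 : Type u₁} [Category.{v₁} 𝒮] {F : Pseudofunctor (LocallyDiscrete 𝒮ᵒᵖ) Cat.{v₂, u₂}}
  {J : Topologies F}

variable {P : (∫ᶜ F)ᵒᵖ ⥤ Type w}

lemma isSeparated (hP : Presieve.IsSheaf (totalTopology F J) P) (S : 𝒮) :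
    Presieve.IsSeparated (J S) ((ι F S).op ⋙ P) := by
  intro U R hR x y₁ y₂ h₁ h₂
  have h := (hP _ (functorPushforward_mem_totalTopology hR)).isSeparatedFor
  refine h.ext ?_
  rintro Y _ ⟨W, r, g, hr, rfl⟩
  have e := (h₁ r hr).trans (h₂ r hr).symm
  have e' : P.map ((ι F S).map r).op y₁ = P.map ((ι F S).map r).op y₂ := e
  simp only [op_comp, Functor.map_comp_apply, e']

end K780.Cont

namespace K780.Cont

variable {𝒮 : Type u₁} [Category.{v₁} 𝒮] {F : Pseudofunctor (LocallyDiscrete 𝒮ᵒᵖ) Cat.{v₂, u₂}}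
  {J : Topologies F} {P : (∫ᶜ F)ᵒᵖ ⥤ Type (max u₂ v₂ w)}

lemma compat_aux (hF : IsPreFibSite F J) (hP : Presieve.IsSheaf (totalTopology F J) P) {S : 𝒮}
    {U : F.obj ⟨op S⟩} {R : Sieve U} (hR : R ∈ J S U)
    (x : Presieve.FamilyOfElements ((ι F S).op ⋙ P) R.arrows) (hx : x.Compatible)
    {W₁ W₂ : F.obj ⟨op S⟩} {T : 𝒮} {V : F.obj ⟨op T⟩} (f : T ⟶ S)
    (φ₁ : V ⟶ (invImage F f).obj W₁) (φ₂ : V ⟶ (invImage F f).obj W₂)
    {r₁ : W₁ ⟶ U} {r₂ : W₂ ⟶ U} (h₁ : R r₁) (h₂ : R r₂)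
    (h : φ₁ ≫ (invImage F f).map r₁ = φ₂ ≫ (invImage F f).map r₂) :
    P.map (hm f φ₁).op (x r₁ h₁) = P.map (hm f φ₂).op (x r₂ h₂) := by
  have hc := hF f
  obtain ⟨Q, s, hQ, hs⟩ := exists_sheaf_injective.{w} (isSeparated hP T)
  have hnat : ∀ {A B : F.obj ⟨op T⟩} (g : A ⟶ B) (y : P.obj (op ((ι F T).obj B))),
      Q.map g.op (s.app (op B) y) = s.app (op A) (P.map ((ι F T).map g).op y) := fun g y =>
    (NatTrans.naturality_apply s g.op y).symm
  apply hs V
  let z : Presieve.FamilyOfElements ((invImage F f).op ⋙ Q) R.arrows := fun W r hr =>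
    s.app (op ((invImage F f).obj W)) (P.map (cart f W).op (x r hr))
  have hz : z.Compatible := by
    intro Y₁ Y₂ Z g₁ g₂ r₁ r₂ hr₁ hr₂ e
    change Q.map ((invImage F f).map g₁).op (s.app _ _) = Q.map ((invImage F f).map g₂).op (s.app _ _)
    rw [hnat, hnat, ← Functor.map_comp_apply, ← Functor.map_comp_apply, ← op_comp, ← op_comp,
      ← cart_naturality, ← cart_naturality, op_comp, op_comp, Functor.map_comp_apply,
      Functor.map_comp_apply]
    have := hx g₁ g₂ hr₁ hr₂ e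
    change P.map ((ι F S).map g₁).op _ = P.map ((ι F S).map g₂).op _ at this
    rw [this]
  obtain ⟨q, hq, -⟩ := Functor.op_comp_isSheaf_of_isSheaf_type (invImage F f) (J S) hQ R hR z hz
  have key : ∀ {W : F.obj ⟨op S⟩} (φ : V ⟶ (invImage F f).obj W) {r : W ⟶ U} (hr : R r),
      s.app (op V) (P.map (hm f φ).op (x r hr)) = Q.map (φ ≫ (invImage F f).map r).op q := by
    intro W φ r hr
    have e : Q.map ((invImage F f).map r).op q = s.app _ (P.map (cart f W).op (x r hr)) := hq r hr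
    rw [← ι_map_comp_cart, op_comp, Functor.map_comp_apply]
    erw [← hnat]
    rw [← e, op_comp, Functor.map_comp_apply]
  exact (key φ₁ h₁).trans ((congrArg (fun a => Q.map a.op q) h).trans (key φ₂ h₂).symm)

/-- The fibre inclusions are continuous. -/
theorem isContinuous_ι (hF : IsPreFibSite F J) (S : 𝒮) :
    (ι F S).IsContinuous (J S) (totalTopology F J) where
  op_comp_isSheaf_of_types G := by
    refine isSheaf_op_comp ((isSheaf_iff_isSheaf_of_type _ _).mp G.property)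
      ⟨fun hR => functorPushforward_mem_totalTopology hR⟩ ?_
    intro X R hR x hx W₁ W₂ Y f₁ f₂ r₁ r₂ h₁ h₂ e
    obtain ⟨T, V, rfl⟩ := obj_surj Y
    obtain ⟨f, φ₁, rfl⟩ := hm_surj f₁
    obtain ⟨f', φ₂, rfl⟩ := hm_surj f₂
    rw [hm_comp_ι_map, hm_comp_ι_map] at e
    obtain rfl := hm_base_inj e
    exact compat_aux.{max u₁ v₁ u₂ v₂} hF ((isSheaf_iff_isSheaf_of_type _ _).mp G.property) hR x hx f φ₁ φ₂ h₁ h₂ (hm_inj e)

end K780.Cont
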