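import Groth.Agent.FibSite.K780.LanElt
import Mathlib.CategoryTheory.Sites.CoverPreserving

/-!
# Covering flat functors

For a functor `G : C ⥤ D` between small categories and a topology `K` on `D`, the functor
"left Kan extension along `G`, then sheafification for `K`" preserves finite limits if and only if `G`
is covering flat: every finite diagram of objects `G.obj c` under an object `d` locally on `d` factors
through a cone in `C`.
-/

set_option autoImplicit false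
set_option backward.isDefEq.respectTransparency false
set_option backward.isDefEq.respectTransparency.types false
set_option backward.defeqAttrib.useBackward true

universe v₁ v₂ u₁ u₂ u

open CategoryTheory CategoryTheory.Limits Opposite

namespace K780.CovFlat

section Loc

variable {D : Type u₂} [Category.{v₂} D]

/-- The property `φ` of morphisms with target `d` holds on a covering sieve. -/
def Loc (K : GrothendieckTopology D) (d : D) (φ : ∀ ⦃d' : D⦄, (d' ⟶ d) → Prop) : Prop :=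
  ∃ S ∈ K d, ∀ ⦃d' : D⦄ (f : d' ⟶ d), S f → φ f

variable {K : GrothendieckTopology D} {d : D}

lemma Loc.mono {φ ψ : ∀ ⦃d' : D⦄, (d' ⟶ d) → Prop} (h : Loc K d φ)
    (hφ : ∀ ⦃d' : D⦄ (f : d' ⟶ d), φ f → ψ f) : Loc K d ψ := by
  obtain ⟨S, hS, h⟩ := h
  exact ⟨S, hS, fun d' f hf => hφ f (h f hf)⟩

lemma Loc.of_forall {φ : ∀ ⦃d' : D⦄, (d' ⟶ d) → Prop} (h : ∀ ⦃d' : D⦄ (f : d' ⟶ d), φ f) :
    Loc K d φ := ⟨⊤, K.top_mem d, fun _ f _ => h f⟩

lemma Loc.bind {φ ψ : ∀ ⦃d' : D⦄, (d' ⟶ d) → Prop} (h : Loc K d φ)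
    (hφ : ∀ ⦃d' : D⦄ (f : d' ⟶ d), φ f → Loc K d' (fun _ g => ψ (g ≫ f))) : Loc K d ψ := by
  obtain ⟨S, hS, h⟩ := h
  choose T hT hT' using fun (d' : D) (f : d' ⟶ d) (hf : S f) => hφ f (h f hf)
  refine ⟨Sieve.bind S (fun d' f hf => T d' f hf), K.bind_covering hS fun d' f hf => hT d' f hf, ?_⟩
  rintro d'' _ ⟨d', g, f, hf, hg, rfl⟩
  exact hT' d' f hf g hg

lemma Loc.and {φ ψ : ∀ ⦃d' : D⦄, (d' ⟶ d) → Prop} (h : Loc K d φ) (h' : Loc K d ψ) :
    Loc K d (fun _ f => φ f ∧ ψ f) := by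
  obtain ⟨S, hS, h⟩ := h
  obtain ⟨S', hS', h'⟩ := h'
  exact ⟨S ⊓ S', K.intersection_covering hS hS', fun d' f hf => ⟨h f hf.1, h' f hf.2⟩⟩

lemma Loc.pullback {φ : ∀ ⦃d' : D⦄, (d' ⟶ d) → Prop} (h : Loc K d φ) {e : D} (g : e ⟶ d) :
    Loc K e (fun _ f => φ (f ≫ g)) := by
  obtain ⟨S, hS, h⟩ := h
  exact ⟨S.pullback g, K.pullback_stable g hS, fun d' f hf => h _ hf⟩

end Loc

/-- Covering flat functors. -/
structure IsCF {C : Type u₁} [Category.{v₁} C] {D : Type u₂} [Category.{v₂} D] (G : C ⥤ D)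
    (K : GrothendieckTopology D) : Prop where
  term : ∀ d : D, Loc K d (fun d' _ => ∃ c : C, Nonempty (d' ⟶ G.obj c))
  prod : ∀ (d : D) (c₁ c₂ : C) (x₁ : d ⟶ G.obj c₁) (x₂ : d ⟶ G.obj c₂),
    Loc K d (fun d' f => ∃ (c : C) (g₁ : c ⟶ c₁) (g₂ : c ⟶ c₂) (y : d' ⟶ G.obj c),
      y ≫ G.map g₁ = f ≫ x₁ ∧ y ≫ G.map g₂ = f ≫ x₂)
  eq : ∀ (d : D) (c c' : C) (s t : c ⟶ c') (x : d ⟶ G.obj c), x ≫ G.map s = x ≫ G.map t →
    Loc K d (fun d' f => ∃ (c₀ : C) (g : c₀ ⟶ c) (y : d' ⟶ G.obj c₀),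
      g ≫ s = g ≫ t ∧ y ≫ G.map g = f ≫ x)

namespace IsCF

variable {C : Type u₁} [Category.{v₁} C] {D : Type u₂} [Category.{v₂} D] {G : C ⥤ D}
    {K : GrothendieckTopology D}

lemma span (h : IsCF G K) (d : D) {c₀ c₁ c₂ : C} (g₁ : c₁ ⟶ c₀) (g₂ : c₂ ⟶ c₀)
    (x₁ : d ⟶ G.obj c₁) (x₂ : d ⟶ G.obj c₂) (e : x₁ ≫ G.map g₁ = x₂ ≫ G.map g₂) :
    Loc K d (fun d' f => ∃ (c : C) (h₁ : c ⟶ c₁) (h₂ : c ⟶ c₂) (y : d' ⟶ G.obj c),
      y ≫ G.map h₁ = f ≫ x₁ ∧ y ≫ G.map h₂ = f ≫ x₂ ∧ h₁ ≫ g₁ = h₂ ≫ g₂) := by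
  refine (h.prod d c₁ c₂ x₁ x₂).bind ?_
  rintro d' f ⟨c, k₁, k₂, y, hk₁, hk₂⟩
  refine (h.eq d' c c₀ (k₁ ≫ g₁) (k₂ ≫ g₂) y ?_).mono ?_
  · rw [Functor.map_comp, Functor.map_comp, reassoc_of% hk₁, reassoc_of% hk₂, e]
  · rintro d'' f' ⟨c', k, y', hk, hy'⟩
    refine ⟨c', k ≫ k₁, k ≫ k₂, y', ?_, ?_, ?_⟩
    · rw [Functor.map_comp, reassoc_of% hy', hk₁, Category.assoc]
    · rw [Functor.map_comp, reassoc_of% hy', hk₂, Category.assoc]
    · simpa using hk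

/-- A covering flat cover preserving functor preserves compatible families. -/
lemma compatiblePreserving (h : IsCF G K) : CompatiblePreserving K G where
  compatible := by
    intro ℱ Z T x hx Y₁ Y₂ X f₁ f₂ g₁ g₂ hg₁ hg₂ e
    obtain ⟨S, hS, hS'⟩ := h.span X g₁ g₂ f₁ f₂ e
    refine (((isSheaf_iff_isSheaf_of_type _ _).mp ℱ.property).isSeparated S hS).ext ?_
    intro Y f hf
    obtain ⟨c, h₁, h₂, y, e₁, e₂, e₃⟩ := hS' f hf
    rw [← Functor.map_comp_apply, ← Functor.map_comp_apply, ← op_comp, ← op_comp, ← e₁, ← e₂,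
      op_comp, op_comp, Functor.map_comp_apply, Functor.map_comp_apply]
    congr 1
    exact hx h₁ h₂ hg₁ hg₂ e₃

lemma isContinuous (h : IsCF G K) {J : GrothendieckTopology C} (hG : CoverPreserving J K G) :
    G.IsContinuous J K :=
  Functor.isContinuous_of_coverPreserving h.compatiblePreserving hG

end IsCF

end K780.CovFlat
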