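import Groth.Agent.FibSite.K780.CovFlat
import Mathlib.CategoryTheory.Limits.Constructions.LimitsOfProductsAndEqualizers

/-!
# Covering flat functors and left exactness of the inverse image functor
-/

set_option autoImplicit false
set_option backward.isDefEq.respectTransparency false
set_option backward.isDefEq.respectTransparency.types false
set_option backward.defeqAttrib.useBackward true

universe u

open CategoryTheory CategoryTheory.Limits Opposite
open K780.LanElt K780.CovFlat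

namespace K780.CovFlatLex

variable {C D : Type u} [SmallCategory C] [SmallCategory D] {G : C ⥤ D}
    {K : GrothendieckTopology D}

lemma loc_of_elt_eq (h : IsCF G K) {P : Cᵒᵖ ⥤ Type u} {d : D} {c c' : C} {x : d ⟶ G.obj c}
    {x' : d ⟶ G.obj c'} {p : P.obj (op c)} {p' : P.obj (op c')} (e : elt G x p = elt G x' p') :
    Loc K d (fun d' f => ∃ (c₀ : C) (g : c₀ ⟶ c) (g' : c₀ ⟶ c') (y : d' ⟶ G.obj c₀),
      y ≫ G.map g = f ≫ x ∧ y ≫ G.map g' = f ≫ x' ∧ P.map g.op p = P.map g'.op p') := by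
  let T := Σ c : C, (d ⟶ G.obj c) × P.obj (op c)
  let r : T → T → Prop := fun a b =>
    Loc K d (fun d' f => ∃ (c₀ : C) (g : c₀ ⟶ a.1) (g' : c₀ ⟶ b.1) (y : d' ⟶ G.obj c₀),
      y ≫ G.map g = f ≫ a.2.1 ∧ y ≫ G.map g' = f ≫ b.2.1 ∧ P.map g.op a.2.2 = P.map g'.op b.2.2)
  have hr : Equivalence r := by
    refine ⟨?_, ?_, ?_⟩
    · intro a
      exact Loc.of_forall fun d' f => ⟨a.1, 𝟙 _, 𝟙 _, f ≫ a.2.1, by simp, by simp, rfl⟩
    · intro a b hab
      refine hab.mono ?_
      rintro d' f ⟨c₀, g, g', y, h₁, h₂, h₃⟩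
      exact ⟨c₀, g', g, y, h₂, h₁, h₃.symm⟩
    · intro a b c' hab hbc
      refine (hab.and hbc).bind ?_
      rintro d' f ⟨⟨c₁, g₁, g₁', y₁, h₁, h₁', e₁⟩, ⟨c₂, g₂, g₂', y₂, h₂, h₂', e₂⟩⟩
      refine (h.span d' g₁' g₂ y₁ y₂ (h₁'.trans h₂.symm)).mono ?_
      rintro d'' f' ⟨c₃, k₁, k₂, y₃, hk₁, hk₂, hk⟩
      refine ⟨c₃, k₁ ≫ g₁, k₂ ≫ g₂', y₃, ?_, ?_, ?_⟩
      · rw [Functor.map_comp, reassoc_of% hk₁, h₁, Category.assoc]
      · rw [Functor.map_comp, reassoc_of% hk₂, h₂', Category.assoc]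
      · rw [op_comp, op_comp, Functor.map_comp_apply, Functor.map_comp_apply, e₁, ← e₂,
          ← Functor.map_comp_apply, ← Functor.map_comp_apply, ← op_comp, ← op_comp, hk]
  let s : Setoid T := ⟨r, hr⟩
  obtain ⟨φ, hφ⟩ := exists_desc G P d (Z := Quotient s) (fun c x p => Quotient.mk s ⟨c, x, p⟩)
    (by
      intro c c' g x p
      apply Quotient.sound
      exact Loc.of_forall fun d' f => ⟨c, 𝟙 _, g, f ≫ x, by simp, by simp, by simp⟩)
  have e' := congrArg φ e
  rw [hφ, hφ] at e'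
  exact Quotient.exact e'

section Abstract

variable {A B E : Type*} [Category* A] [Category* B] [Category* E] {I : Type*} [Category* I]
  (L : A ⥤ B) (M : B ⥤ E) {Q : I ⥤ A} {c : Cone Q} (hc : IsLimit c) {c' : Cone (Q ⋙ L)}
  (hc' : IsLimit c') [PreservesLimit (Q ⋙ L) M]

include hc in
lemma isIso_map_lift [PreservesLimit Q (L ⋙ M)] : IsIso (M.map (hc'.lift (L.mapCone c))) := by
  let h1 : IsLimit ((L ⋙ M).mapCone c) := isLimitOfPreserves (L ⋙ M) hc
  let h2 : IsLimit (M.mapCone c') := isLimitOfPreserves M hc'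
  have e : M.map (hc'.lift (L.mapCone c)) = (IsLimit.conePointUniqueUpToIso h1 h2).hom := by
    refine h2.hom_ext fun j => ?_
    refine Eq.trans ?_ (IsLimit.conePointUniqueUpToIso_hom_comp h1 h2 j).symm
    change M.map _ ≫ M.map _ = M.map (L.map _)
    rw [← Functor.map_comp]
    congr 1
    exact hc'.fac _ j
  rw [e]
  infer_instance

include hc in
lemma preservesLimit_of_isIso (h : IsIso (M.map (hc'.lift (L.mapCone c)))) :
    PreservesLimit Q (L ⋙ M) := by
  let h2 : IsLimit (M.mapCone c') := isLimitOfPreserves M hc'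
  refine preservesLimit_of_preserves_limit_cone hc ?_
  refine IsLimit.ofIsoLimit h2 (Cone.ext (asIso (M.map (hc'.lift (L.mapCone c)))).symm fun j => ?_)
  rw [← Iso.inv_comp_eq]
  change M.map _ ≫ M.map _ = M.map (L.map _)
  rw [← Functor.map_comp]
  congr 1
  exact hc'.fac _ j

end Abstract

/-- If lan followed by sheafification preserves a finite limit, then compatible families of elements
locally come from elements of the Kan extension of the limit. -/
lemma loc_of_preserves {I : Type} [SmallCategory I] [FinCategory I] {Q : I ⥤ (Cᵒᵖ ⥤ Type u)} {c : Cone Q}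
    (hc : IsLimit c) [PreservesLimit Q (G.op.lan ⋙ presheafToSheaf K (Type u))] {d : D}
    (y : ∀ i, (G.op.lan.obj (Q.obj i)).obj (op d))
    (hy : ∀ ⦃i j : I⦄ (g : i ⟶ j), (G.op.lan.map (Q.map g)).app (op d) (y i) = y j) :
    Loc K d (fun d' f => ∃ z : (G.op.lan.obj c.pt).obj (op d'), ∀ i,
      (G.op.lan.map (c.π.app i)).app (op d') z = (G.op.lan.obj (Q.obj i)).map f.op (y i)) := by
  let hc' := limit.isLimit (Q ⋙ (G.op.lan : (Cᵒᵖ ⥤ Type u) ⥤ (Dᵒᵖ ⥤ Type u)))
  have hw : K.W (hc'.lift (G.op.lan.mapCone c)) := by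
    rw [K.W_iff]
    exact isIso_map_lift _ _ hc hc'
  have hs := hw.isLocallySurjective
  let he := isLimitOfPreserves ((evaluation _ _).obj (op d)) hc'
  let y' := (Types.isLimitEquivSections he).symm ⟨y, fun {i j} g => hy g⟩
  have hy' : ∀ i, (limit.π (Q ⋙ (G.op.lan : (Cᵒᵖ ⥤ Type u) ⥤ (Dᵒᵖ ⥤ Type u))) i).app (op d) y' = y i := by
    intro i
    have := (Types.isLimitEquivSections_apply he i y').symm
    exact this.trans (congrArg (fun s => s.1 i) (Equiv.apply_symm_apply (Types.isLimitEquivSections he) _))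
  refine ⟨_, Presheaf.imageSieve_mem K (hc'.lift (G.op.lan.mapCone c)) y', ?_⟩
  rintro d' f ⟨z, hz⟩
  refine ⟨z, fun i => ?_⟩
  rw [← hy']
  refine Eq.trans ?_ (NatTrans.naturality_apply
    (limit.π (Q ⋙ (G.op.lan : (Cᵒᵖ ⥤ Type u) ⥤ (Dᵒᵖ ⥤ Type u))) i) f.op y')
  refine Eq.trans ?_ (congrArg _ hz)
  have := congrArg (fun α => α.app (op d')) (hc'.fac (G.op.lan.mapCone c) i)
  exact (congrArg (fun (α : (G.op.lan.obj c.pt).obj (op d') ⟶ (G.op.lan.obj (Q.obj i)).obj (op d')) => α z) this).symm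

lemma elt_eq_id {d : D} {c c₀ : C} (x : d ⟶ G.obj c) (g : c ⟶ c₀) :
    elt G (P := yoneda.obj c₀) x g = elt G (P := yoneda.obj c₀) (x ≫ G.map g) (𝟙 c₀) := by
  rw [elt_comp]
  congr 1
  exact (Category.comp_id g).symm

/-- First half of the characterization. -/
theorem isCF_of_preserves [PreservesFiniteLimits ((G.op.lan : (Cᵒᵖ ⥤ Type u) ⥤ _) ⋙ presheafToSheaf K (Type u))] :
    IsCF G K where
  term d := by
    have h := loc_of_preserves (G := G) (K := K) (Q := Functor.empty.{0} (Cᵒᵖ ⥤ Type u))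
      (limit.isLimit _) (d := d) (fun i => i.as.elim) (fun i => i.as.elim)
    refine h.mono ?_
    rintro d' f ⟨z, -⟩
    obtain ⟨c, x, p, -⟩ := exists_elt G z
    exact ⟨c, ⟨x⟩⟩
  prod d c₁ c₂ x₁ x₂ := by
    have h := loc_of_preserves (G := G) (K := K) (Q := pair (yoneda.obj c₁) (yoneda.obj c₂))
      (limit.isLimit _) (d := d)
      (fun i => match i with
        | ⟨.left⟩ => elt G (P := yoneda.obj c₁) x₁ (𝟙 c₁)
        | ⟨.right⟩ => elt G (P := yoneda.obj c₂) x₂ (𝟙 c₂))
      (by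
        rintro ⟨⟨⟩⟩ ⟨⟨⟩⟩ ⟨⟨⟨⟩⟩⟩
        · exact (lan_map_elt G _ x₁ _).trans (by simp)
        · exact (lan_map_elt G _ x₂ _).trans (by simp))
    refine h.mono ?_
    rintro d' f ⟨z, hz⟩
    obtain ⟨c, x, p, rfl⟩ := exists_elt G z
    have h1 := hz ⟨.left⟩
    have h2 := hz ⟨.right⟩
    dsimp only at h1 h2
    rw [lan_map_elt] at h1 h2
    have h1' := h1.trans (map_elt G f x₁ _)
    have h2' := h2.trans (map_elt G f x₂ _)
    refine ⟨c, _, _, x, (elt_yoneda_inj G h1').trans ?_, (elt_yoneda_inj G h2').trans ?_⟩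
    · simp
    · simp
  eq d c c' s t x hx := by
    have h := loc_of_preserves (G := G) (K := K) (Q := parallelPair (yoneda.map s) (yoneda.map t))
      (limit.isLimit _) (d := d)
      (fun i => match i with
        | .zero => elt G (P := yoneda.obj c) x (𝟙 c)
        | .one => elt G (P := yoneda.obj c') x s)
      (by
        rintro _ _ ⟨⟩
        · refine (lan_map_elt G (yoneda.map s) x _).trans ?_
          simp
        · refine (lan_map_elt G (yoneda.map t) x _).trans ?_
          dsimp only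
          rw [elt_eq_id x s, hx, ← elt_eq_id x t]
          simp
        · rename_i i
          cases i
          · exact (lan_map_elt G _ x _).trans (by simp)
          · exact (lan_map_elt G _ x _).trans (by simp))
    refine h.mono ?_
    rintro d' f ⟨z, hz⟩
    obtain ⟨c₀, y, p, rfl⟩ := exists_elt G z
    have h1 := hz .zero
    dsimp only at h1
    rw [lan_map_elt] at h1
    have h1' := h1.trans (map_elt G f x _)
    refine ⟨c₀, _, y, ?_, (elt_yoneda_inj G h1').trans ?_⟩
    · have e1 := limit.w (parallelPair (yoneda.map s) (yoneda.map t)) WalkingParallelPairHom.left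
      have e2 := limit.w (parallelPair (yoneda.map s) (yoneda.map t)) WalkingParallelPairHom.right
      have e := congrArg (fun α => α.app (op c₀)) (e1.trans e2.symm)
      exact congrArg (fun (α : (limit (parallelPair (yoneda.map s) (yoneda.map t))).obj (op c₀) ⟶
        (yoneda.obj c').obj (op c₀)) => α p) e
    · simp

lemma exists_elem {C : Type u} [SmallCategory C] {I : Type} [SmallCategory I] {Q : I ⥤ (Cᵒᵖ ⥤ Type u)} {c : Cone Q} (hc : IsLimit c)
    (X : Cᵒᵖ) (y : ∀ i, (Q.obj i).obj X) (hy : ∀ ⦃i j : I⦄ (g : i ⟶ j), (Q.map g).app X (y i) = y j) :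
    ∃ z : c.pt.obj X, ∀ i, (c.π.app i).app X z = y i := by
  let he := isLimitOfPreserves ((evaluation _ _).obj X) hc
  refine ⟨(Types.isLimitEquivSections he).symm ⟨y, fun {i j} g => hy g⟩, fun i => ?_⟩
  have := (Types.isLimitEquivSections_apply he i
    ((Types.isLimitEquivSections he).symm ⟨y, fun {i j} g => hy g⟩)).symm
  exact this.trans (congrArg (fun s => s.1 i) (Equiv.apply_symm_apply (Types.isLimitEquivSections he) _))

lemma ext_elem {C : Type u} [SmallCategory C] {I : Type} [SmallCategory I] {Q : I ⥤ (Cᵒᵖ ⥤ Type u)} {c : Cone Q} (hc : IsLimit c)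
    (X : Cᵒᵖ) {z z' : c.pt.obj X} (h : ∀ i, (c.π.app i).app X z = (c.π.app i).app X z') : z = z' := by
  let he := isLimitOfPreserves ((evaluation _ _).obj X) hc
  exact (Types.isLimitEquivSections he).injective (Subtype.ext (funext h))

lemma π_map {C : Type u} [SmallCategory C] {I : Type} [SmallCategory I] {Q : I ⥤ (Cᵒᵖ ⥤ Type u)} (c : Cone Q)
    {X Y : Cᵒᵖ} (f : X ⟶ Y) (z : c.pt.obj X) (i : I) :
    (c.π.app i).app Y (c.pt.map f z) = (Q.obj i).map f ((c.π.app i).app X z) :=
  NatTrans.naturality_apply (c.π.app i) f z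

lemma mem_of_loc {d : D} {S : Sieve d} (h : Loc K d (fun _ f => S f)) : S ∈ K d := by
  obtain ⟨T, hT, h⟩ := h
  exact K.superset_covering h hT

lemma W_of_loc {I : Type} [SmallCategory I] {Q : I ⥤ (Cᵒᵖ ⥤ Type u)} {c : Cone Q}
    {c' : Cone (Q ⋙ (G.op.lan : (Cᵒᵖ ⥤ Type u) ⥤ (Dᵒᵖ ⥤ Type u)))} (hc' : IsLimit c')
    (inj : ∀ (d : D) (z z' : (G.op.lan.obj c.pt).obj (op d)),
      (∀ i, (G.op.lan.map (c.π.app i)).app (op d) z = (G.op.lan.map (c.π.app i)).app (op d) z') →
      Loc K d (fun _ f => (G.op.lan.obj c.pt).map f.op z = (G.op.lan.obj c.pt).map f.op z'))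
    (surj : ∀ (d : D) (y : ∀ i, (G.op.lan.obj (Q.obj i)).obj (op d)),
      (∀ ⦃i j : I⦄ (g : i ⟶ j), (G.op.lan.map (Q.map g)).app (op d) (y i) = y j) →
      Loc K d (fun d' f => ∃ z : (G.op.lan.obj c.pt).obj (op d'), ∀ i,
        (G.op.lan.map (c.π.app i)).app (op d') z = (G.op.lan.obj (Q.obj i)).map f.op (y i))) :
    K.W (hc'.lift (G.op.lan.mapCone c)) := by
  have fac : ∀ (d : D) (z : (G.op.lan.obj c.pt).obj (op d)) (i : I),
      (c'.π.app i).app (op d) ((hc'.lift (G.op.lan.mapCone c)).app (op d) z) =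
        (G.op.lan.map (c.π.app i)).app (op d) z := by
    intro d z i
    have := congrArg (fun α => α.app (op d)) (hc'.fac (G.op.lan.mapCone c) i)
    exact (congrArg (fun (α : (G.op.lan.obj c.pt).obj (op d) ⟶ (G.op.lan.obj (Q.obj i)).obj (op d)) => α z) this)
  rw [K.W_iff_isLocallyBijective]
  constructor
  · refine ⟨fun {X} z z' h => mem_of_loc ?_⟩
    refine inj X.unop z z' fun i => ?_
    rw [← fac, ← fac]
    exact congrArg _ h
  · refine ⟨fun {X} s => mem_of_loc ?_⟩
    refine (surj X (fun i => (c'.π.app i).app (op X) s) ?_).mono ?_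
    · intro i j g
      have := congrArg (fun α => α.app (op X)) (c'.w g)
      exact (congrArg (fun (α : c'.pt.obj (op X) ⟶ (G.op.lan.obj (Q.obj j)).obj (op X)) => α s) this)
    · rintro d' f ⟨z, hz⟩
      refine ⟨z, ?_⟩
      refine ext_elem hc' _ fun i => ?_
      rw [fac, hz]
      exact (NatTrans.naturality_apply (c'.π.app i) f.op s).symm

lemma preservesTerminal (h : IsCF G K) : PreservesLimitsOfShape (Discrete.{0} PEmpty)
    ((G.op.lan : (Cᵒᵖ ⥤ Type u) ⥤ _) ⋙ presheafToSheaf K (Type u)) where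
  preservesLimit {Q} := by
    have hc := limit.isLimit Q
    have hc' := limit.isLimit (Q ⋙ (G.op.lan : (Cᵒᵖ ⥤ Type u) ⥤ (Dᵒᵖ ⥤ Type u)))
    refine preservesLimit_of_isIso _ _ hc hc' ?_
    rw [← K.W_iff]
    refine W_of_loc hc' ?_ ?_
    · intro d z z' _
      obtain ⟨c, x, p, rfl⟩ := exists_elt G z
      obtain ⟨c', x', p', rfl⟩ := exists_elt G z'
      refine (h.prod d c c' x x').mono ?_
      rintro d' f ⟨c₀, g, g', y, h₁, h₂⟩
      rw [map_elt, map_elt, ← h₁, ← h₂, elt_comp, elt_comp]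
      congr 1
      exact ext_elem hc _ fun i => i.as.elim
    · intro d y _
      refine (h.term d).mono ?_
      rintro d' f ⟨c, ⟨x⟩⟩
      obtain ⟨p, -⟩ := exists_elem hc (op c) (fun i => i.as.elim) (fun i => i.as.elim)
      exact ⟨elt G x p, fun i => i.as.elim⟩

lemma preservesPullbacks (h : IsCF G K) : PreservesLimitsOfShape WalkingCospan
    ((G.op.lan : (Cᵒᵖ ⥤ Type u) ⥤ _) ⋙ presheafToSheaf K (Type u)) where
  preservesLimit {Q} := by
    have hc := limit.isLimit Q
    have hc' := limit.isLimit (Q ⋙ (G.op.lan : (Cᵒᵖ ⥤ Type u) ⥤ (Dᵒᵖ ⥤ Type u)))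
    refine preservesLimit_of_isIso _ _ hc hc' ?_
    rw [← K.W_iff]
    refine W_of_loc hc' ?_ ?_
    · intro d z z' hz
      obtain ⟨c, x, p, rfl⟩ := exists_elt G z
      obtain ⟨c', x', p', rfl⟩ := exists_elt G z'
      have e₁ := hz WalkingCospan.left
      have e₂ := hz WalkingCospan.right
      rw [lan_map_elt, lan_map_elt] at e₁ e₂
      refine ((loc_of_elt_eq h e₁).and (loc_of_elt_eq h e₂)).bind ?_
      rintro d' f ⟨⟨c₁, g₁, g₁', y₁, h₁, h₁', a₁⟩, ⟨c₂, g₂, g₂', y₂, h₂, h₂', a₂⟩⟩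
      refine (h.span d' g₁ g₂ y₁ y₂ (h₁.trans h₂.symm)).bind ?_
      rintro d'' f' ⟨c₃, k₁, k₂, y₃, hk₁, hk₂, hk⟩
      refine (h.eq d'' c₃ c' (k₁ ≫ g₁') (k₂ ≫ g₂') y₃ ?_).mono ?_
      · rw [Functor.map_comp, Functor.map_comp, reassoc_of% hk₁, reassoc_of% hk₂, h₁', h₂']
      · rintro d₃ f'' ⟨c₄, k, y₄, hk', hy₄⟩
        have b₁ : y₄ ≫ G.map (k ≫ k₁ ≫ g₁) = ((f'' ≫ f') ≫ f) ≫ x := by
          rw [Functor.map_comp, Functor.map_comp, reassoc_of% hy₄, reassoc_of% hk₁, h₁]
          simp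
        have b₂ : y₄ ≫ G.map (k ≫ k₁ ≫ g₁') = ((f'' ≫ f') ≫ f) ≫ x' := by
          rw [Functor.map_comp, Functor.map_comp, reassoc_of% hy₄, reassoc_of% hk₁, h₁']
          simp
        rw [map_elt, map_elt, ← b₁, ← b₂, elt_comp, elt_comp]
        congr 1
        have c₁' : ((limit.cone Q).π.app WalkingCospan.left).app (op c₄) ((limit.cone Q).pt.map (k ≫ k₁ ≫ g₁).op p) =
            ((limit.cone Q).π.app WalkingCospan.left).app (op c₄) ((limit.cone Q).pt.map (k ≫ k₁ ≫ g₁').op p') := by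
          rw [π_map, π_map]
          simp only [op_comp, Functor.map_comp_apply]
          rw [a₁]
        have c₂' : ((limit.cone Q).π.app WalkingCospan.right).app (op c₄) ((limit.cone Q).pt.map (k ≫ k₁ ≫ g₁).op p) =
            ((limit.cone Q).π.app WalkingCospan.right).app (op c₄) ((limit.cone Q).pt.map (k ≫ k₁ ≫ g₁').op p') := by
          rw [hk, hk', π_map, π_map]
          simp only [op_comp, Functor.map_comp_apply]
          rw [a₂]
        refine ext_elem hc _ fun i => ?_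
        rcases i with _ | _ | _
        · have := congrArg (fun α => α.app (op c₄)) ((limit.cone Q).w WalkingCospan.Hom.inl)
          refine (congrArg (fun (α : (limit.cone Q).pt.obj (op c₄) ⟶ (Q.obj WalkingCospan.one).obj (op c₄)) =>
            α ((limit.cone Q).pt.map (k ≫ k₁ ≫ g₁).op p)) this).symm.trans ?_
          refine Eq.trans ?_ (congrArg (fun (α : (limit.cone Q).pt.obj (op c₄) ⟶ (Q.obj WalkingCospan.one).obj (op c₄)) =>
            α ((limit.cone Q).pt.map (k ≫ k₁ ≫ g₁').op p')) this)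
          exact congrArg ((Q.map WalkingCospan.Hom.inl).app (op c₄)) c₁'
        · exact c₁'
        · exact c₂'
    · intro d y hy
      obtain ⟨c₁, x₁, p₁, hp₁⟩ := exists_elt G (y WalkingCospan.left)
      obtain ⟨c₂, x₂, p₂, hp₂⟩ := exists_elt G (y WalkingCospan.right)
      have e₁ := hy WalkingCospan.Hom.inl
      have e₂ := hy WalkingCospan.Hom.inr
      rw [hp₁, lan_map_elt] at e₁
      rw [hp₂, lan_map_elt] at e₂
      refine (loc_of_elt_eq h (e₁.trans e₂.symm)).mono ?_
      rintro d' f ⟨c, g₁, g₂, z, h₁, h₂, a⟩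
      obtain ⟨p, hp⟩ := exists_elem hc (op c)
        (fun i => match i with
          | .left => (Q.obj WalkingCospan.left).map g₁.op p₁
          | .right => (Q.obj WalkingCospan.right).map g₂.op p₂
          | .one => (Q.obj WalkingCospan.one).map g₁.op ((Q.map WalkingCospan.Hom.inl).app (op c₁) p₁))
        (by
          rintro _ _ (⟨_ | _ | _⟩ | ⟨_ | _⟩)
          · simp
          · simp
          · simp
          · exact NatTrans.naturality_apply (Q.map WalkingCospan.Hom.inl) g₁.op p₁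
          · exact (NatTrans.naturality_apply (Q.map WalkingCospan.Hom.inr) g₂.op p₂).trans a.symm)
      refine ⟨elt G z p, fun i => ?_⟩
      rw [lan_map_elt, hp]
      rcases i with _ | _ | _
      · rw [← e₁]
        refine Eq.trans ?_ (map_elt G f x₁ _).symm
        rw [← h₁, elt_comp]
      · change elt G z ((Q.obj WalkingCospan.left).map g₁.op p₁) = (G.op.lan.obj (Q.obj WalkingCospan.left)).map f.op (y WalkingCospan.left)
        rw [hp₁, map_elt, ← h₁, elt_comp]
      · change elt G z ((Q.obj WalkingCospan.right).map g₂.op p₂) = (G.op.lan.obj (Q.obj WalkingCospan.right)).map f.op (y WalkingCospan.right)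
        rw [hp₂, map_elt, ← h₂, elt_comp]

theorem preserves_of_isCF (h : IsCF G K) : PreservesFiniteLimits
    ((G.op.lan : (Cᵒᵖ ⥤ Type u) ⥤ _) ⋙ presheafToSheaf K (Type u)) := by
  have := preservesTerminal h
  have := preservesPullbacks h
  exact preservesFiniteLimits_of_preservesTerminal_and_pullbacks _

end K780.CovFlatLex
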