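import Groth.Agent.FibSite.K780.Basic

/-!
# Covering sieves of the total topology
-/

set_option autoImplicit false
set_option backward.isDefEq.respectTransparency false
set_option backward.isDefEq.respectTransparency.types false
set_option backward.defeqAttrib.useBackward true

universe v₃ u₃ v₂ u₂ v₁ u₁

open CategoryTheory CategoryTheory.Limits Opposite Pseudofunctor Pseudofunctor.CoGrothendieck
open FibSite K780.Basic

namespace K780.Cover

variable {𝒮 : Type u₁} [Category.{v₁} 𝒮] {F : Pseudofunctor (LocallyDiscrete 𝒮ᵒᵖ) Cat.{v₂, u₂}}
  {J : Topologies F}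

lemma functorPullback_functorPushforward_le {S : 𝒮} {U : F.obj ⟨op S⟩} (R : Sieve U) :
    (R.functorPushforward (ι F S)).functorPullback (ι F S) ≤ R := by
  intro V g hg
  obtain ⟨W, r, h, hr, e⟩ := hg
  obtain ⟨f', ψ, rfl⟩ := hm_surj h
  rw [hm_comp_ι_map, ι_map_eq] at e
  obtain rfl := hm_base_inj e
  rw [← ι_map_eq, ← hm_comp_ι_map, hm_id, ← Functor.map_comp] at e
  rw [(ι F S).map_injective e]
  exact R.downward_closed hr _

lemma functorPullback_functorPushforward_eq {S : 𝒮} {U : F.obj ⟨op S⟩} (R : Sieve U) :
    (R.functorPushforward (ι F S)).functorPullback (ι F S) = R :=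
  le_antisymm (functorPullback_functorPushforward_le R)
    (Sieve.functorPushforward_le_iff_le_functorPullback (ι F S) _ _ |>.mp le_rfl)

/-- pullback of a sieve generated by a sieve of the fibre. -/
lemma pullback_functorPushforward {T S : 𝒮} {V : F.obj ⟨op T⟩} {U : F.obj ⟨op S⟩} (R : Sieve U)
    (f : T ⟶ S) (φ : V ⟶ (invImage F f).obj U) :
    (((R.functorPushforward (invImage F f)).pullback φ).functorPushforward (ι F T)) ≤
      (R.functorPushforward (ι F S)).pullback (hm f φ) := by
  rw [Sieve.functorPushforward_le_iff_le_functorPullback]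
  intro V g hg
  change R.functorPushforward (ι F S) ((ι F T).map g ≫ hm f φ)
  rw [ι_map_comp_hm, functorPushforward_ι_hm]
  exact hg

/-- The topology on the total category whose covering sieves are those containing the image of a
covering sieve of the fibre. -/
def coverTop (hF : IsPreFibSite F J) : GrothendieckTopology (∫ᶜ F) where
  sieves X := {S | (Sieve.functorPullback (X := X.fiber) (ι F X.base) S) ∈ J X.base X.fiber}
  top_mem' X := (J X.base).top_mem _
  pullback_stable' X Y S g hS := by
    have hc := hF g.base
    have h1 := (CoverPreserving.of_isContinuous (invImage F g.base) (J X.base) (J Y.base)).cover_preserve hS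
    have h2 := (J Y.base).pullback_stable g.fiber h1
    refine (J Y.base).superset_covering ?_ h2
    refine (Sieve.functorPushforward_le_iff_le_functorPullback _ _ _).mp ?_
    refine (pullback_functorPushforward _ g.base g.fiber).trans ?_
    refine Sieve.pullback_monotone _ ?_
    exact (Sieve.functorPushforward_le_iff_le_functorPullback (ι F X.base) _ _).mpr le_rfl
  transitive' X S hS R hR := by
    refine (J X.base).transitive hS _ ?_
    intro V g hg
    have h1 : Sieve.functorPullback (X := V) (ι F X.base) (Sieve.pullback ((ι F X.base).map g) R) ∈ J X.base V :=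
      hR hg
    refine (J X.base).superset_covering (fun W w hw => ?_) h1
    change R ((ι F X.base).map (w ≫ g))
    rw [Functor.map_comp]
    exact hw

lemma totalTopology_eq (hF : IsPreFibSite F J) : totalTopology F J = coverTop hF := by
  apply le_antisymm
  · refine totalTopology_le fun S U R hR => ?_
    have := functorPullback_functorPushforward_eq R
    rw [← this] at hR
    exact hR
  · intro X S hS
    refine (totalTopology F J).superset_covering ?_ (functorPushforward_mem_totalTopology hS)
    exact (Sieve.functorPushforward_le_iff_le_functorPullback (ι F X.base) _ _).mpr le_rfl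

lemma mem_totalTopology_iff (hF : IsPreFibSite F J) {X : ∫ᶜ F} (S : Sieve X) :
    S ∈ totalTopology F J X ↔
      (Sieve.functorPullback (X := X.fiber) (ι F X.base) S) ∈ J X.base X.fiber := by
  rw [totalTopology_eq hF]; exact Iff.rfl

lemma mem_totalTopology_iff_ι (hF : IsPreFibSite F J) {S : 𝒮} {U : F.obj ⟨op S⟩}
    (R : Sieve ((ι F S).obj U)) :
    R ∈ totalTopology F J ((ι F S).obj U) ↔ R.functorPullback (ι F S) ∈ J S U :=
  mem_totalTopology_iff hF _

theorem mem_totalTopology_iff_exists (hF : IsPreFibSite F J) (X : ∫ᶜ F) (S : Sieve X) :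
    S ∈ totalTopology F J X ↔
      ∃ R ∈ J X.base X.fiber, Sieve.functorPushforward (ι F X.base) R ≤ S := by
  rw [mem_totalTopology_iff hF]
  constructor
  · intro h
    exact ⟨_, h, (Sieve.functorPushforward_le_iff_le_functorPullback (ι F X.base) _ _).mpr le_rfl⟩
  · rintro ⟨R, hR, h⟩
    exact (J X.base).superset_covering
      ((Sieve.functorPushforward_le_iff_le_functorPullback (ι F X.base) _ _).mp h) hR

theorem isCocontinuous_ι (hF : IsPreFibSite F J) (S : 𝒮) :
    (ι F S).IsCocontinuous (J S) (totalTopology F J) where
  cover_lift hS := (mem_totalTopology_iff hF _).mp hS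

theorem mem_of_functorPushforward_mem (hF : IsPreFibSite F J) {S : 𝒮} {U : F.obj ⟨op S⟩} {R : Sieve U}
    (h : R.functorPushforward (ι F S) ∈ totalTopology F J ((ι F S).obj U)) : R ∈ J S U := by
  have := (mem_totalTopology_iff hF _).mp h
  rw [← functorPullback_functorPushforward_eq R]
  exact this

end K780.Cover
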