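import Mathlib.CategoryTheory.Sites.Pullback
import Mathlib.CategoryTheory.Sites.LocallyBijective

/-!
# Elements of left Kan extensions of presheaves of sets
-/

set_option autoImplicit false
set_option backward.isDefEq.respectTransparency false
set_option backward.isDefEq.respectTransparency.types false
set_option backward.defeqAttrib.useBackward true

universe u

open CategoryTheory CategoryTheory.Limits Opposite

namespace K780.LanElt

variable {C D : Type u} [SmallCategory C] [SmallCategory D] (G : C ⥤ D)

/-- The element of the left Kan extension of `P` along `G.op` defined by `x : d ⟶ G.obj c` and `p ∈ P(c)`. -/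
noncomputable def elt {P : Cᵒᵖ ⥤ Type u} {d : D} {c : C} (x : d ⟶ G.obj c) (p : P.obj (op c)) :
    (G.op.lan.obj P).obj (op d) :=
  (G.op.lan.obj P).map x.op ((G.op.lanUnit.app P).app (op c) p)

variable {P P' : Cᵒᵖ ⥤ Type u} {d d' : D} {c c' : C}

lemma map_elt (f : d' ⟶ d) (x : d ⟶ G.obj c) (p : P.obj (op c)) :
    (G.op.lan.obj P).map f.op (elt G x p) = elt G (f ≫ x) p := by
  simp only [elt, op_comp, Functor.map_comp_apply]

lemma elt_comp (x : d ⟶ G.obj c) (g : c ⟶ c') (p : P.obj (op c')) :
    elt G (x ≫ G.map g) p = elt G x (P.map g.op p) := by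
  simp only [elt, op_comp, Functor.map_comp_apply]
  congr 1
  exact (NatTrans.naturality_apply (G.op.lanUnit.app P) g.op p).symm

lemma lan_map_elt (φ : P ⟶ P') (x : d ⟶ G.obj c) (p : P.obj (op c)) :
    (G.op.lan.map φ).app (op d) (elt G x p) = elt G x (φ.app (op c) p) := by
  simp only [elt]
  have h := NatTrans.naturality_apply (G.op.lan.map φ) x.op ((G.op.lanUnit.app P).app (op c) p)
  refine h.trans ?_
  congr 1
  have h2 := congrArg (fun α => α.app (op c)) (G.op.lanUnit.naturality φ)
  exact (congrArg (fun (α : P.obj (op c) ⟶ (G.op.lan.obj P').obj (G.op.obj (op c))) => α p) h2).symm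

/-- The universal property of the elements of the Kan extension. -/
lemma exists_desc (P : Cᵒᵖ ⥤ Type u) (d : D) {Z : Type u}
    (z : ∀ (c : C) (_ : d ⟶ G.obj c) (_ : P.obj (op c)), Z)
    (hz : ∀ (c c' : C) (g : c ⟶ c') (x : d ⟶ G.obj c) (p : P.obj (op c')),
      z c x (P.map g.op p) = z c' (x ≫ G.map g) p) :
    ∃ φ : (G.op.lan.obj P).obj (op d) → Z, ∀ (c : C) (x : d ⟶ G.obj c) (p : P.obj (op c)),
      φ (elt G x p) = z c x p := by
  let hc := G.op.isPointwiseLeftKanExtensionLeftKanExtensionUnit P (op d)
  let s : Cocone (CostructuredArrow.proj G.op (op d) ⋙ P) :=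
    { pt := Z
      ι :=
        { app := fun f => ↾(fun p => z f.left.unop f.hom.unop p)
          naturality := fun f f' g => by
            ext p
            have h1 : f.hom.unop = f'.hom.unop ≫ G.map g.left.unop := by
              have := CostructuredArrow.w g
              rw [← this]; rfl
            have := hz f'.left.unop f.left.unop g.left.unop f'.hom.unop p
            rw [← h1] at this
            exact this } }
  refine ⟨hc.desc s, fun c x p => ?_⟩
  have h := hc.fac s (CostructuredArrow.mk (Y := op c) x.op)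
  exact congrArg (fun (α : P.obj (op c) ⟶ Z) => α p) h

lemma exists_elt (y : (G.op.lan.obj P).obj (op d)) :
    ∃ (c : C) (x : d ⟶ G.obj c) (p : P.obj (op c)), y = elt G x p := by
  let hc := G.op.isPointwiseLeftKanExtensionLeftKanExtensionUnit P (op d)
  obtain ⟨f, p, hp⟩ := Types.jointly_surjective _ hc y
  exact ⟨f.left.unop, f.hom.unop, p, hp.symm⟩

/-- Elements `elt G x (𝟙 c)` of the Kan extension of the representable presheaf are determined by `x`. -/
lemma elt_yoneda_inj {c₀ : C} {x : d ⟶ G.obj c} {x' : d ⟶ G.obj c'} {p : (yoneda.obj c₀).obj (op c)}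
    {p' : (yoneda.obj c₀).obj (op c')} (h : elt G x p = elt G x' p') :
    x ≫ G.map p = x' ≫ G.map p' := by
  obtain ⟨φ, hφ⟩ := exists_desc G (yoneda.obj c₀) d (Z := d ⟶ G.obj c₀) (fun c x p => x ≫ G.map p)
    (by intro c c' g x p; simp [yoneda])
  rw [← hφ, ← hφ, h]

end K780.LanElt
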