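import Groth.Agent.FibSite.K780.CovFlatLex

/-!
# Morphisms of sites and covering flat functors
-/

set_option autoImplicit false
set_option backward.isDefEq.respectTransparency false
set_option backward.isDefEq.respectTransparency.types false
set_option backward.defeqAttrib.useBackward true

universe u

open CategoryTheory CategoryTheory.Limits Opposite
open K780.LanElt K780.CovFlat K780.CovFlatLex

namespace K780.MorSite

variable {C D : Type u} [SmallCategory C] [SmallCategory D] {G : C ⥤ D}
    {J : GrothendieckTopology C} {K : GrothendieckTopology D} [G.IsContinuous J K]

/-- Sheafification followed by the sheaf pullback is the left Kan extension followed by sheafification. -/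
noncomputable def presheafToSheafCompPullbackIso
    [(G.sheafPushforwardContinuous (Type u) J K).IsRightAdjoint] :
    presheafToSheaf J (Type u) ⋙ G.sheafPullback (Type u) J K ≅
      G.op.lan ⋙ presheafToSheaf K (Type u) :=
  ((sheafificationAdjunction J (Type u)).comp (G.sheafAdjunctionContinuous (Type u) J K)).leftAdjointUniq
    ((G.op.lanAdjunction (Type u)).comp (sheafificationAdjunction K (Type u)))

theorem isCF_of_preservesFiniteLimits
    [(G.sheafPushforwardContinuous (Type u) J K).IsRightAdjoint]
    (h : PreservesFiniteLimits (G.sheafPullback (Type u) J K)) : IsCF G K := by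
  have : PreservesFiniteLimits (presheafToSheaf J (Type u) ⋙ G.sheafPullback (Type u) J K) :=
    comp_preservesFiniteLimits _ _
  have := preservesFiniteLimits_of_natIso (presheafToSheafCompPullbackIso (G := G) (J := J) (K := K))
  exact isCF_of_preserves

theorem preservesFiniteLimits_of_isCF
    [(G.sheafPushforwardContinuous (Type u) J K).IsRightAdjoint]
    (h : IsCF G K) : PreservesFiniteLimits (G.sheafPullback (Type u) J K) := by
  have := preserves_of_isCF h
  have : PreservesFiniteLimits (Functor.sheafPullbackConstruction.sheafPullback G (Type u) J K) :=
    comp_preservesFiniteLimits (sheafToPresheaf J (Type u)) (G.op.lan ⋙ presheafToSheaf K (Type u))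
  exact preservesFiniteLimits_of_natIso
    (Functor.sheafPullbackConstruction.sheafPullbackIso G (Type u) J K).symm

instance isRightAdjoint : (G.sheafPushforwardContinuous (Type u) J K).IsRightAdjoint := inferInstance

end K780.MorSite
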