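import Groth.Agent.FibSite.K780.Sheaf
import Mathlib.CategoryTheory.Limits.Preserves.Shapes.Products

/-!
# Restriction to a fibre of the coextension from a fibre
-/

set_option autoImplicit false
set_option backward.isDefEq.respectTransparency false
set_option backward.isDefEq.respectTransparency.types false
set_option backward.defeqAttrib.useBackward true

universe u

open CategoryTheory CategoryTheory.Limits Opposite Pseudofunctor Pseudofunctor.CoGrothendieck
open FibSite K780.Basic K780.Cover K780.Cont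

namespace K780.Pi

lemma fan_isLimit {I : Type u} {X : I → Type u} (c : Fan X)
    (hinj : ∀ x y : c.pt, (∀ i, c.proj i x = c.proj i y) → x = y)
    (hsurj : ∀ t : ∀ i, X i, ∃ x : c.pt, ∀ i, c.proj i x = t i) : Nonempty (IsLimit c) := by
  choose l hl using hsurj
  refine ⟨Fan.IsLimit.mk c (fun s => ↾ fun x => l (fun i => s.proj i x)) ?_ ?_⟩
  · intro s i
    ext x
    exact hl _ i
  · intro s m hm
    ext x
    refine hinj _ _ fun i => ?_
    refine Eq.trans ?_ (hl _ i).symm
    rw [← hm i]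
    rfl

variable {𝒮 : Type u} [SmallCategory 𝒮] {F : Pseudofunctor (LocallyDiscrete 𝒮ᵒᵖ) Cat.{u, u}}
  {J : Topologies F} {i j : 𝒮} [∀ (P : (F.obj ⟨op i⟩)ᵒᵖ ⥤ Type u), (ι F i).op.HasPointwiseRightKanExtension P]

variable (P : (F.obj ⟨op i⟩)ᵒᵖ ⥤ Type u)

/-- The right Kan extension along the fibre inclusion. -/
noncomputable abbrev R : (∫ᶜ F)ᵒᵖ ⥤ Type u :=
  (ι F i).op.ran.obj P

/-- The components of a section of the right Kan extension. -/
noncomputable def ev {Y : ∫ᶜ F} {W : F.obj ⟨op i⟩} (x : (ι F i).obj W ⟶ Y) (s : (R P).obj (op Y)) :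
    P.obj (op W) :=
  ((ι F i).op.ranCounit.app P).app (op W) ((R P).map x.op s)

variable {P}

lemma ev_map {Y Y' : ∫ᶜ F} {W : F.obj ⟨op i⟩} (x : (ι F i).obj W ⟶ Y) (y : Y ⟶ Y')
    (s : (R P).obj (op Y')) : ev P x ((R P).map y.op s) = ev P (x ≫ y) s := by
  rw [ev, ev, op_comp, Functor.map_comp_apply]

lemma ev_comp {Y : ∫ᶜ F} {W W' : F.obj ⟨op i⟩} (g : W' ⟶ W) (x : (ι F i).obj W ⟶ Y) (s : (R P).obj (op Y)) :
    ev P ((ι F i).map g ≫ x) s = P.map g.op (ev P x s) := by
  rw [ev, ev, op_comp, Functor.map_comp_apply]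
  exact NatTrans.naturality_apply ((ι F i).op.ranCounit.app P) g.op ((R P).map x.op s)

lemma ev_ext {Y : ∫ᶜ F} {s s' : (R P).obj (op Y)}
    (h : ∀ (W : F.obj ⟨op i⟩) (x : (ι F i).obj W ⟶ Y), ev P x s = ev P x s') : s = s' := by
  let hR := (ι F i).op.isPointwiseRightKanExtensionRanCounit P (op Y)
  apply (Types.isLimitEquivSections hR).injective
  refine Subtype.ext (funext fun w => ?_)
  exact h w.right.unop w.hom.unop

lemma exists_of_ev {Y : ∫ᶜ F} (t : ∀ (W : F.obj ⟨op i⟩) (_ : (ι F i).obj W ⟶ Y), P.obj (op W))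
    (ht : ∀ (W W' : F.obj ⟨op i⟩) (g : W' ⟶ W) (x : (ι F i).obj W ⟶ Y),
      t W' ((ι F i).map g ≫ x) = P.map g.op (t W x)) :
    ∃ s : (R P).obj (op Y), ∀ (W : F.obj ⟨op i⟩) (x : (ι F i).obj W ⟶ Y), ev P x s = t W x := by
  let hR := (ι F i).op.isPointwiseRightKanExtensionRanCounit P (op Y)
  let sec : (StructuredArrow.proj (op Y) (ι F i).op ⋙ P).sections :=
    ⟨fun w => t w.right.unop w.hom.unop, by
      intro w w' g
      have e : w'.hom.unop = (ι F i).map g.right.unop ≫ w.hom.unop := by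
        have := StructuredArrow.w g
        rw [← this]; rfl
      change P.map g.right (t w.right.unop w.hom.unop) = t w'.right.unop w'.hom.unop
      rw [e]
      exact (ht w.right.unop w'.right.unop g.right.unop w.hom.unop).symm⟩
  refine ⟨(Types.isLimitEquivSections hR).symm sec, fun W x => ?_⟩
  have h1 := (Types.isLimitEquivSections_apply hR (StructuredArrow.mk (Y := op W) x.op)
    ((Types.isLimitEquivSections hR).symm sec)).symm
  exact h1.trans (congrArg (fun s => s.1 (StructuredArrow.mk (Y := op W) x.op))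
    (Equiv.apply_symm_apply (Types.isLimitEquivSections hR) sec))

variable (P) in
/-- The projections. -/
noncomputable def pr (f : i ⟶ j) : (ι F j).op ⋙ R P ⟶ (invImage F f).op ⋙ P where
  app V := ↾ fun s => ev P (cart f V.unop) s
  naturality V V' g := by
    ext s
    change ev P (cart f V'.unop) ((R P).map ((ι F j).map g.unop).op s) =
      P.map ((invImage F f).map g.unop).op (ev P (cart f V.unop) s)
    rw [ev_map, cart_naturality, ev_comp]

lemma isLimit_fan : Nonempty (IsLimit (Fan.mk ((ι F j).op ⋙ R P) (fun f : i ⟶ j => pr P f))) := by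
  refine ⟨evaluationJointlyReflectsLimits _ fun V => ?_⟩
  refine (isLimitMapConeFanMkEquiv ((evaluation _ _).obj V) _ _).symm ?_
  refine Nonempty.some (fan_isLimit _ ?_ ?_)
  · intro s s' h
    refine ev_ext fun W x => ?_
    obtain ⟨f, φ, hx⟩ := hm_surj (U := V.unop) x
    rw [hx, ← ι_map_comp_cart, ev_comp, ev_comp]
    exact congrArg _ (h f)
  · intro t
    obtain ⟨s, hs⟩ := exists_of_ev (Y := (ι F j).obj V.unop) (P := P)
      (fun W x => P.map x.fiber.op (t x.base)) (by
        intro W W' g x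
        obtain ⟨f, φ, rfl⟩ := hm_surj x
        rw [ι_map_comp_hm]
        change P.map (g ≫ φ).op (t f) = P.map g.op (P.map φ.op (t f))
        rw [op_comp, Functor.map_comp_apply])
    refine ⟨s, fun f => (hs _ (cart f V.unop)).trans ?_⟩
    change P.map (𝟙 _ : (invImage F f).obj V.unop ⟶ _).op (t f) = t f
    simp

theorem nonempty_restr_coextend_iso (i j : 𝒮)
    [∀ S : 𝒮, (ι F S).IsContinuous (J S) (FibSite.totalTopology F J)]
    [(ι F i).IsCocontinuous (J i) (FibSite.totalTopology F J)]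
    [∀ (P : (F.obj ⟨op i⟩)ᵒᵖ ⥤ Type u), (ι F i).op.HasPointwiseRightKanExtension P]
    [∀ (R S : 𝒮) (f : R ⟶ S), (FibSite.invImage F f).IsContinuous (J S) (J R)]
    (a : Sheaf (J i) (Type u)) :
    ∃ c : Fan fun f : i ⟶ j => ((FibSite.invImage F f).sheafPushforwardContinuous (Type u) (J j) (J i)).obj a,
      Nonempty (IsLimit c) ∧
        Nonempty (c.pt ≅ (FibSite.restr F J (Type u) j).obj ((FibSite.coextend F J (Type u) i).obj a)) := by
  obtain ⟨h⟩ := isLimit_fan (i := i) (j := j) (P := a.obj)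
  let c : Fan fun f : i ⟶ j => ((FibSite.invImage F f).sheafPushforwardContinuous (Type u) (J j) (J i)).obj a :=
    Fan.mk ((FibSite.restr F J (Type u) j).obj ((FibSite.coextend F J (Type u) i).obj a))
      (fun f => ⟨pr a.obj f⟩)
  refine ⟨c, ⟨?_⟩, ⟨Iso.refl _⟩⟩
  exact isLimitOfIsLimitFanMkObj (sheafToPresheaf (J j) (Type u)) _ _ h

end K780.Pi
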