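import Groth.Agent.FibSite.K780.LanElt
import Groth.Agent.FibSite.K780.Sheaf
import Mathlib.CategoryTheory.Limits.Types.Coproducts
import Mathlib.CategoryTheory.Limits.Preserves.Shapes.Products

/-!
# Restriction to a fibre of the extension from a fibre
-/

set_option autoImplicit false
set_option backward.isDefEq.respectTransparency false
set_option backward.isDefEq.respectTransparency.types false
set_option backward.defeqAttrib.useBackward true

universe u

open CategoryTheory CategoryTheory.Limits Opposite Pseudofunctor Pseudofunctor.CoGrothendieck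
open FibSite K780.Basic K780.Cover K780.Cont K780.LanElt

namespace K780.Sigma

variable {𝒮 : Type u} [SmallCategory 𝒮] {F : Pseudofunctor (LocallyDiscrete 𝒮ᵒᵖ) Cat.{u, u}}
  {J : Topologies F} {i j : 𝒮}

/-- The Kan extension along the fibre inclusion. -/
noncomputable abbrev L (P : (F.obj ⟨op i⟩)ᵒᵖ ⥤ Type u) : (∫ᶜ F)ᵒᵖ ⥤ Type u :=
  (ι F i).op.lan.obj P

/-- The Kan extension along the inverse image functor. -/
noncomputable abbrev D (f : j ⟶ i) (P : (F.obj ⟨op i⟩)ᵒᵖ ⥤ Type u) : (F.obj ⟨op j⟩)ᵒᵖ ⥤ Type u :=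
  (invImage F f).op.lan.obj P

variable (P : (F.obj ⟨op i⟩)ᵒᵖ ⥤ Type u)

/-- auxiliary map -/
noncomputable def τ (f : j ⟶ i) : P ⟶ (invImage F f).op ⋙ ((ι F j).op ⋙ L P) where
  app W := ↾ fun p => elt (ι F i) (cart f W.unop) p
  naturality W W' g := by
    ext p
    change elt (ι F i) (cart f W'.unop) (P.map g p) =
      (L P).map ((ι F j).map ((invImage F f).map g.unop)).op (elt (ι F i) (cart f W.unop) p)
    rw [map_elt, ← cart_naturality, elt_comp]
    rfl

/-- inclusion of a summand. -/
noncomputable def inc (f : j ⟶ i) : D f P ⟶ (ι F j).op ⋙ L P :=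
  (((invImage F f).op.lanAdjunction (Type u)).homEquiv P ((ι F j).op ⋙ L P)).symm (τ P f)

lemma inc_elt (f : j ⟶ i) {V : F.obj ⟨op j⟩} {W : F.obj ⟨op i⟩} (φ : V ⟶ (invImage F f).obj W)
    (p : P.obj (op W)) :
    (inc P f).app (op V) (elt (invImage F f) φ p) = elt (ι F i) (hm f φ) p := by
  have h : ((invImage F f).op.lanUnit.app P) ≫ ((Functor.whiskeringLeft _ _ _).obj (invImage F f).op).map (inc P f) =
      τ P f := by
    have h0 : ((invImage F f).op.lanAdjunction (Type u)).homEquiv P ((ι F j).op ⋙ L P) (inc P f) = τ P f :=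
      Equiv.apply_symm_apply _ _
    rw [Adjunction.homEquiv_unit, Functor.lanAdjunction_unit] at h0
    exact h0
  have h' := congrArg (fun α => α.app (op W)) h
  have h'' : (inc P f).app (op ((invImage F f).obj W)) (((invImage F f).op.lanUnit.app P).app (op W) p) =
      elt (ι F i) (cart f W) p :=
    congrArg (fun (α : P.obj (op W) ⟶ (L P).obj (op ((ι F j).obj ((invImage F f).obj W)))) => α p) h'
  rw [elt]
  refine (NatTrans.naturality_apply (inc P f) φ.op _).trans ?_
  refine (congrArg (((ι F j).op ⋙ L P).map φ.op) h'').trans ?_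
  refine (map_elt (ι F i) ((ι F j).map φ) (cart f W) p).trans ?_
  rw [ι_map_comp_cart]

/-- The decomposition of the Kan extension, at the level of presheaves. -/
noncomputable def cofanP : Cofan (fun f : j ⟶ i => D f P) :=
  Cofan.mk ((ι F j).op ⋙ L P) (fun f => inc P f)

lemma exists_inverse (V : F.obj ⟨op j⟩) :
    ∃ r : (L P).obj (op ((ι F j).obj V)) → Σ f : j ⟶ i, (D f P).obj (op V),
      ∀ (f : j ⟶ i) (W : F.obj ⟨op i⟩) (φ : V ⟶ (invImage F f).obj W) (p : P.obj (op W)),
        r (elt (ι F i) (hm f φ) p) = ⟨f, elt (invImage F f) φ p⟩ := by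
  obtain ⟨r, hr⟩ := exists_desc (ι F i) P ((ι F j).obj V)
    (Z := Σ f : j ⟶ i, (D f P).obj (op V))
    (fun W x p => ⟨x.base, elt (invImage F x.base) x.fiber p⟩) (by
      intro W W' g x p
      obtain ⟨f, φ, rfl⟩ := hm_surj x
      rw [hm_comp_ι_map]
      exact congrArg (Sigma.mk f) (elt_comp (invImage F f) φ g p).symm)
  exact ⟨r, fun f W φ p => hr W (hm f φ) p⟩

theorem nonempty_isColimit_cofanP : Nonempty (IsColimit (cofanP (i := i) (j := j) P)) := by
  refine ⟨evaluationJointlyReflectsColimits _ fun V => ?_⟩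
  refine (isColimitMapCoconeCofanMkEquiv ((evaluation _ _).obj V) _ _).symm ?_
  refine Nonempty.some ?_
  rw [Cofan.nonempty_isColimit_iff_bijective_fromSigma]
  obtain ⟨V⟩ := V
  constructor
  · obtain ⟨r, hr⟩ := exists_inverse (j := j) P V
    refine Function.LeftInverse.injective (g := r) ?_
    rintro ⟨f, y⟩
    obtain ⟨W, φ, p, rfl⟩ := exists_elt (invImage F f) y
    refine Eq.trans ?_ (hr f W φ p)
    exact congrArg r (inc_elt P f φ p)
  · intro y
    obtain ⟨W, x, p, rfl⟩ := exists_elt (ι F i) y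
    obtain ⟨f, φ, rfl⟩ := hm_surj x
    exact ⟨⟨f, elt (invImage F f) φ p⟩, inc_elt P f φ p⟩

theorem nonempty_restr_extend_iso (hF : IsPreFibSite F J) (i j : 𝒮)
    [∀ S : 𝒮, (ι F S).IsContinuous (J S) (FibSite.totalTopology F J)]
    [((ι F i).sheafPushforwardContinuous (Type u) (J i) (FibSite.totalTopology F J)).IsRightAdjoint]
    [∀ (R S : 𝒮) (f : R ⟶ S), (FibSite.invImage F f).IsContinuous (J S) (J R)]
    [∀ (R S : 𝒮) (f : R ⟶ S),
      ((FibSite.invImage F f).sheafPushforwardContinuous (Type u) (J S) (J R)).IsRightAdjoint]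
    (a : Sheaf (J i) (Type u)) :
    ∃ c : Cofan fun f : j ⟶ i => ((FibSite.invImage F f).sheafPullback (Type u) (J i) (J j)).obj a,
      Nonempty (IsColimit c) ∧
        Nonempty (c.pt ≅ (FibSite.restr F J (Type u) j).obj ((FibSite.extend F J (Type u) i).obj a)) := by
  obtain ⟨h⟩ := nonempty_isColimit_cofanP (i := i) (j := j) a.obj
  have h2 := isColimitCofanMkObjOfIsColimit (presheafToSheaf (J j) (Type u)) _ _ h
  let e : Discrete.functor (fun f : j ⟶ i => ((FibSite.invImage F f).sheafPullback (Type u) (J i) (J j)).obj a) ≅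
      Discrete.functor (fun f : j ⟶ i => (presheafToSheaf (J j) (Type u)).obj (D f a.obj)) :=
    Discrete.natIso fun f =>
      (Functor.sheafPullbackConstruction.sheafPullbackIso (invImage F f.as) (Type u) (J i) (J j)).app a
  refine ⟨(Cocone.precompose e.hom).obj _, ⟨(IsColimit.precomposeHomEquiv e _).symm h2⟩, ⟨?_⟩⟩
  have := isCocontinuous_ι hF j
  refine ((ι F j).pushforwardContinuousSheafificationCompatibility (Type u) (J j)
    (totalTopology F J)).app (L a.obj) ≪≫ ?_
  exact (FibSite.restr F J (Type u) j).mapIso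
    ((Functor.sheafPullbackConstruction.sheafPullbackIso (ι F i) (Type u) (J i)
      (totalTopology F J)).symm.app a)

end K780.Sigma
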