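import Groth.Agent.FibSite.K780.MorSite
import Groth.Agent.FibSite.K780.Cont
import Mathlib.CategoryTheory.Adjunction.Triple

/-!
# The fibre over a final object: full faithfulness and left exactness of the extension functor
-/

set_option autoImplicit false
set_option backward.isDefEq.respectTransparency false
set_option backward.isDefEq.respectTransparency.types false
set_option backward.defeqAttrib.useBackward true

universe u

open CategoryTheory CategoryTheory.Limits Opposite Pseudofunctor Pseudofunctor.CoGrothendieck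
open FibSite K780.Basic K780.Cover K780.Cont K780.CovFlat K780.MorSite

namespace K780.Term

section

variable {C D : Type u} [SmallCategory C] [SmallCategory D] (G : C ⥤ D)
    (J : GrothendieckTopology C) (K : GrothendieckTopology D) [G.IsContinuous J K]

/-- The left adjoint of the restriction along a fully faithful continuous and cocontinuous functor is fully
faithful. -/
theorem fullyFaithful_sheafPullback [G.Full] [G.Faithful] [G.IsCocontinuous J K]
    [(G.sheafPushforwardContinuous (Type u) J K).IsRightAdjoint] :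
    Nonempty (G.sheafPullback (Type u) J K).FullyFaithful := by
  let t : Adjunction.Triple (G.sheafPullback (Type u) J K) (G.sheafPushforwardContinuous (Type u) J K)
      (G.sheafPushforwardCocontinuous (Type u) J K) :=
    ⟨G.sheafAdjunctionContinuous (Type u) J K, G.sheafAdjunctionCocontinuous (Type u) J K⟩
  have h : ∀ F, IsIso (t.adj₂.counit.app F) := by
    intro F
    have e : (t.adj₂.counit.app F).hom = (G.op.ranAdjunction (Type u)).counit.app F.obj :=
      G.sheafAdjunctionCocontinuous_counit_app_hom (Type u) J K F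
    have : IsIso ((sheafToPresheaf J (Type u)).map (t.adj₂.counit.app F)) := by
      change IsIso (t.adj₂.counit.app F).hom
      rw [e, Functor.ranAdjunction_counit]
      infer_instance
    exact isIso_of_reflects_iso (t.adj₂.counit.app F) (sheafToPresheaf J (Type u))
  have h2 : IsIso t.adj₂.counit := NatIso.isIso_of_isIso_app _
  exact ⟨t.fullyFaithfulEquiv.symm t.adj₂.fullyFaithfulROfIsIsoCounit⟩

end

section

variable {𝒮 : Type u} [SmallCategory 𝒮] {F : Pseudofunctor (LocallyDiscrete 𝒮ᵒᵖ) Cat.{u, u}}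
  {J : Topologies F}

lemma full_ι {i : 𝒮} (hi : IsTerminal i) : (ι F i).Full where
  map_surjective {V W} g := by
    obtain ⟨f, φ, rfl⟩ := hm_surj g
    obtain rfl := hi.hom_ext f (𝟙 i)
    exact ⟨_, (hm_id φ).symm⟩

theorem extend_full_and_faithful (hF : IsPreFibSite F J) (i : 𝒮) (hi : IsTerminal i)
    [(ι F i).IsContinuous (J i) (FibSite.totalTopology F J)]
    [((ι F i).sheafPushforwardContinuous (Type u) (J i) (FibSite.totalTopology F J)).IsRightAdjoint] :
    (FibSite.extend F J (Type u) i).Full ∧ (FibSite.extend F J (Type u) i).Faithful := by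
  have := full_ι (F := F) hi
  have := isCocontinuous_ι hF i
  obtain ⟨h⟩ := fullyFaithful_sheafPullback (ι F i) (J i) (FibSite.totalTopology F J)
  exact ⟨h.full, h.faithful⟩

/-- morphisms of sites have covering flat underlying functors. -/
lemma isCF_invImage (hF : IsFibSite F J) {R S : 𝒮} (f : R ⟶ S) : IsCF (invImage F f) (J R) := by
  obtain ⟨h1, h2, h3⟩ := hF f
  exact isCF_of_preservesFiniteLimits h3

/-- transport of local existence from a fibre to the total category. -/
lemma loc_ι {T : 𝒮} {V : F.obj ⟨op T⟩} {φ : ∀ ⦃X : ∫ᶜ F⦄, (X ⟶ (ι F T).obj V) → Prop}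
    (h : Loc (J T) V (fun V' f => φ ((ι F T).map f)))
    (hφ : ∀ ⦃X Y : ∫ᶜ F⦄ (g : Y ⟶ X) (f : X ⟶ (ι F T).obj V), φ f → φ (g ≫ f)) :
    Loc (totalTopology F J) ((ι F T).obj V) φ := by
  obtain ⟨S, hS, h⟩ := h
  refine ⟨S.functorPushforward (ι F T), functorPushforward_mem_totalTopology hS, ?_⟩
  rintro Y _ ⟨W, r, g, hr, rfl⟩
  exact hφ _ _ (h r hr)

lemma isCF_ι (hF : IsFibSite F J) (i : 𝒮) (hi : IsTerminal i) : IsCF (ι F i) (totalTopology F J) where
  term d := by
    obtain ⟨T, V, rfl⟩ := obj_surj d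
    refine loc_ι ?_ ?_
    · refine ((isCF_invImage hF (hi.from T)).term V).mono ?_
      rintro V' f ⟨c, ⟨x⟩⟩
      exact ⟨c, ⟨hm (hi.from T) x⟩⟩
    · rintro X Y g f ⟨c, ⟨x⟩⟩
      exact ⟨c, ⟨g ≫ x⟩⟩
  prod d c₁ c₂ x₁ x₂ := by
    obtain ⟨T, V, rfl⟩ := obj_surj d
    obtain ⟨f₁, φ₁, rfl⟩ := hm_surj x₁
    obtain ⟨f₂, φ₂, rfl⟩ := hm_surj x₂
    obtain rfl := hi.hom_ext f₁ f₂
    refine loc_ι ?_ ?_
    · refine ((isCF_invImage hF f₁).prod V c₁ c₂ φ₁ φ₂).mono ?_
      rintro V' f ⟨c, g₁, g₂, y, h₁, h₂⟩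
      refine ⟨c, g₁, g₂, hm f₁ y, ?_, ?_⟩
      · rw [hm_comp_ι_map, ι_map_comp_hm, h₁]
      · rw [hm_comp_ι_map, ι_map_comp_hm, h₂]
    · rintro X Y g f ⟨c, g₁, g₂, y, h₁, h₂⟩
      exact ⟨c, g₁, g₂, g ≫ y, by rw [Category.assoc, h₁, Category.assoc],
        by rw [Category.assoc, h₂, Category.assoc]⟩
  eq d c c' s t x hx := by
    obtain ⟨T, V, rfl⟩ := obj_surj d
    obtain ⟨f₁, φ₁, rfl⟩ := hm_surj x
    rw [hm_comp_ι_map, hm_comp_ι_map] at hx
    refine loc_ι ?_ ?_
    · refine ((isCF_invImage hF f₁).eq V c c' s t φ₁ (hm_inj hx)).mono ?_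
      rintro V' f ⟨c₀, g, y, h₁, h₂⟩
      refine ⟨c₀, g, hm f₁ y, h₁, ?_⟩
      rw [hm_comp_ι_map, ι_map_comp_hm, h₂]
    · rintro X Y g f ⟨c₀, g₀, y, h₁, h₂⟩
      exact ⟨c₀, g₀, g ≫ y, h₁, by rw [Category.assoc, h₂, Category.assoc]⟩

end

end K780.Term
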